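import Mathlib

/-!
Finite fields generated by an element of prime order, and invariant alternating biadditive maps
on them.
-/

set_option linter.style.haveILetI false

namespace CfsgLib.Solvable.SchmidtUniversal

/-- A field of order `p ^ a`, where `a` is the order of `p` modulo `q`, with an element of order `q`. -/
structure Setup (p q a : ℕ) (F : Type*) [Field F] (ζ : F) : Prop where
  card : Nat.card F = p ^ a
  ord : a = orderOf (p : ZMod q)
  ne : p ≠ q
  zeta : ζ ^ q = 1
  ne_one : ζ ≠ 1

variable {p q a : ℕ} [hp : Fact p.Prime] [hq : Fact q.Prime]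

theorem a_pos (hne : p ≠ q) (ha : a = orderOf (p : ZMod q)) : 0 < a := by
  have h0 : (p : ZMod q) ≠ 0 := by
    rw [Ne, CharP.cast_eq_zero_iff (ZMod q) q, Nat.prime_dvd_prime_iff_eq hq.out hp.out]
    exact fun h => hne h.symm
  rw [ha, orderOf_pos_iff, isOfFinOrder_iff_pow_eq_one]
  exact ⟨q - 1, Nat.sub_pos_of_lt hq.out.one_lt, ZMod.pow_card_sub_one_eq_one h0⟩

theorem pow_eq_self_iff {M : Type*} [Monoid M] {z : M} (hz : orderOf z = q) (n : ℕ) :
    z ^ p ^ n = z ↔ orderOf (p : ZMod q) ∣ n := by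
  have hfin : IsOfFinOrder z := orderOf_pos_iff.1 (hz ▸ hq.out.pos)
  rw [orderOf_dvd_iff_pow_eq_one]
  conv_lhs => rhs; rw [← pow_one z]
  rw [hfin.pow_eq_pow_iff_modEq, hz, ← ZMod.natCast_eq_natCast_iff, Nat.cast_pow, Nat.cast_one]

section Fields

variable {F : Type*} [Field F] [Finite F]

omit hp hq in
theorem ncard_roots_le {N : ℕ} (hN : 1 < N) (c : F) (S : Set F) (h : ∀ x ∈ S, x ^ N = c * x) :
    Nat.card S ≤ N := by
  classical
  open Polynomial in
  set f : F[X] := X ^ N - C c * X with hf
  have hdeg : f.natDegree = N := by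
    rw [hf, natDegree_sub_eq_left_of_natDegree_lt, natDegree_X_pow]
    rw [natDegree_X_pow]
    exact lt_of_le_of_lt (natDegree_C_mul_le _ _) (by rw [natDegree_X]; exact hN)
  have hne : f ≠ 0 := ne_zero_of_natDegree_gt (hdeg.symm ▸ hN)
  have hsub : S ⊆ (f.roots.toFinset : Set F) := by
    intro x hx
    rw [Finset.mem_coe, Multiset.mem_toFinset, mem_roots hne]
    simp [hf, IsRoot, h x hx]
  calc Nat.card S = S.ncard := Nat.card_coe_set_eq S
    _ ≤ (f.roots.toFinset : Set F).ncard := Set.ncard_le_ncard hsub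
    _ = f.roots.toFinset.card := Set.ncard_coe_finset _
    _ ≤ Multiset.card f.roots := Multiset.toFinset_card_le _
    _ ≤ N := hdeg ▸ card_roots' f

/-- A subring generated by an element of order `q` has order `p ^ a`. -/
theorem card_closure [CharP F p] (ha : a = orderOf (p : ZMod q)) (hne : p ≠ q) {τ : F}
    (hτ : orderOf τ = q) : Nat.card (Subring.closure ({τ} : Set F)) = p ^ a := by
  classical
  set M := Subring.closure ({τ} : Set F) with hM
  have hτM : τ ∈ M := Subring.subset_closure rfl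
  haveI := Fintype.ofFinite M
  letI : Field M := Fintype.fieldOfDomain M
  haveI : CharP M p := (M.subtype.charP_iff M.subtype_injective p).2 inferInstance
  obtain ⟨n, -, hn⟩ := FiniteField.card M p
  have hcard : Nat.card M = p ^ (n : ℕ) := by rw [Nat.card_eq_fintype_card, hn]
  have h1 : orderOf (p : ZMod q) ∣ (n : ℕ) := by
    refine (pow_eq_self_iff hτ n).1 ?_
    have := congrArg Subtype.val (FiniteField.pow_card (⟨τ, hτM⟩ : M))
    rwa [hn, SubmonoidClass.coe_pow] at this
  have h2 : M ≤ (iterateFrobenius F p a).eqLocus (RingHom.id F) := by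
    rw [hM, Subring.closure_le, Set.singleton_subset_iff]
    show iterateFrobenius F p a τ = τ
    rw [iterateFrobenius_def]
    exact (pow_eq_self_iff hτ a).2 (ha ▸ dvd_rfl)
  have h3 : Nat.card M ≤ p ^ a := ncard_roots_le (Nat.one_lt_pow (a_pos hne ha).ne' hp.out.one_lt) 1
    (M : Set F) fun x hx => by
      have := h2 hx
      change iterateFrobenius F p a x = x at this
      rw [iterateFrobenius_def] at this; rw [one_mul, this]
  rw [hcard] at h3 ⊢
  congr 1
  exact le_antisymm ((Nat.pow_le_pow_iff_right hp.out.one_lt).1 h3)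
    (ha ▸ Nat.le_of_dvd n.pos h1)

namespace Setup

variable {ζ : F} (S : Setup p q a F ζ)
include S

theorem charP : CharP F p := by
  haveI := Fintype.ofFinite F
  obtain ⟨c, hc⟩ := CharP.exists F
  haveI := hc
  obtain ⟨n, hcp, hn⟩ := FiniteField.card F c
  rw [← Nat.card_eq_fintype_card, S.card] at hn
  have h1 : c ∣ p ^ a := hn ▸ dvd_pow_self c n.pos.ne'
  obtain rfl := (Nat.prime_dvd_prime_iff_eq hcp hp.out).1 (hcp.dvd_of_dvd_pow h1)
  exact hc

theorem order : orderOf ζ = q := orderOf_eq_prime S.zeta S.ne_one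

theorem closure_eq_top : Subring.closure ({ζ} : Set F) = ⊤ := by
  haveI := S.charP
  rw [eq_top_iff]
  intro x _
  have h := (Subring.closure ({ζ} : Set F)).toAddSubgroup.eq_top_of_card_eq
    ((card_closure S.ord S.ne S.order).trans S.card.symm)
  exact h.ge (AddSubgroup.mem_top x)

theorem nsmul_p (x : F) : p • x = 0 := by
  haveI := S.charP
  rw [nsmul_eq_mul, CharP.cast_eq_zero, zero_mul]

/-- The powers of `ζ` generate the additive group. -/
theorem induction {P : F → Prop} (h0 : P 0) (hadd : ∀ x y, P x → P y → P (x + y))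
    (hpow : ∀ i : ℕ, P (ζ ^ i)) (u : F) : P u := by
  have hu : u ∈ Subring.closure ({ζ} : Set F) := S.closure_eq_top.ge (Subring.mem_top u)
  rw [Subring.mem_closure_iff] at hu
  induction hu using AddSubgroup.closure_induction with
  | mem x hx =>
    obtain ⟨i, rfl⟩ := Submonoid.mem_closure_singleton.1 hx
    exact hpow i
  | zero => exact h0
  | add x y _ _ hx hy => exact hadd x y hx hy
  | neg x _ hx =>
    have h1 : ∀ n : ℕ, P (n • x) := by
      intro n
      induction n with
      | zero => rw [zero_nsmul]; exact h0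
      | succ n ih => rw [succ_nsmul]; exact hadd _ _ ih hx
    have h2 : -x = (p - 1) • x := by
      rw [neg_eq_iff_add_eq_zero, add_comm, ← succ_nsmul, Nat.sub_add_cancel hp.out.one_le, S.nsmul_p]
    rw [h2]; exact h1 _

theorem pow_card_self (x : F) : x ^ p ^ a = x := by
  haveI := Fintype.ofFinite F
  rw [← S.card, Nat.card_eq_fintype_card]
  exact FiniteField.pow_card x

theorem zeta_ne_zero : ζ ≠ 0 := by
  intro h
  have := S.zeta
  rw [h, zero_pow hq.out.ne_zero] at this
  exact zero_ne_one this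

/-- For `a = 2 b`, the map `x ↦ x ^ p ^ b` inverts `ζ`. -/
theorem pow_half {b : ℕ} (hb : a = 2 * b) : ζ ^ p ^ b * ζ = 1 := by
  have h1 : ((p : ZMod q) ^ b) ^ 2 = 1 := by
    rw [← pow_mul, mul_comm, ← hb, S.ord, pow_orderOf_eq_one]
  have h2 : (p : ZMod q) ^ b ≠ 1 := fun h => by
    have h3 := Nat.le_of_dvd (by have := a_pos S.ne S.ord; omega) (orderOf_dvd_of_pow_eq_one h)
    rw [← S.ord] at h3
    have := a_pos S.ne S.ord
    omega
  have h3 : (p : ZMod q) ^ b = -1 := by
    rcases sq_eq_one_iff.1 h1 with h | h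
    · exact absurd h h2
    · exact h
  rw [← pow_succ, ← orderOf_dvd_iff_pow_eq_one, S.order, ← CharP.cast_eq_zero_iff (ZMod q) q]
  push_cast
  rw [h3, neg_add_cancel]

end Setup

end Fields

/-- Existence of a setup. -/
theorem exists_setup (hne : p ≠ q) (ha : a = orderOf (p : ZMod q)) :
    ∃ ζ : GaloisField p a, Setup p q a (GaloisField p a) ζ := by
  have hcard : Nat.card (GaloisField p a) = p ^ a := GaloisField.card p a (a_pos hne ha).ne'
  have hdvd : q ∣ Nat.card (GaloisField p a)ˣ := by
    rw [Nat.card_units, hcard, ← CharP.cast_eq_zero_iff (ZMod q) q,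
      Nat.cast_sub (Nat.one_le_pow _ _ hp.out.pos)]
    push_cast
    rw [ha, pow_orderOf_eq_one, sub_self]
  obtain ⟨u, hu⟩ := exists_prime_orderOf_dvd_card' q hdvd
  refine ⟨(u : GaloisField p a), hcard, ha, hne, ?_, fun h => ?_⟩
  · rw [← Units.val_pow_eq_pow_val, ← hu, pow_orderOf_eq_one, Units.val_one]
  · rw [← orderOf_units, h, orderOf_one] at hu
    exact hq.out.one_lt.ne hu

section Alternating

variable {F : Type*} [Field F] [Finite F] {ζ : F} {L : Type*} [Group L]

/-- The image of an invariant alternating biadditive map. -/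
theorem range_bound (S : Setup p q a F ζ) (β : F → F → L)
    (hl : ∀ u v w, β (u + v) w = β u w * β v w) (hr : ∀ u v w, β u (v + w) = β u v * β u w)
    (hinv : ∀ u v, β (ζ * u) (ζ * v) = β u v) (halt : ∀ u, β u u = 1) :
    ∃ g : Multiplicative F →* L, (∀ u v, β u v ∈ g.range) ∧
      Nat.card g.range ≤ p ^ (if a % 2 = 1 then 0 else a / 2) := by
  classical
  haveI := S.charP
  have hl0 : ∀ v, β 0 v = 1 := fun v => by
    have := hl 0 0 v
    rwa [add_zero, left_eq_mul] at this
  set γ : F → L := fun z => β 1 z with hγ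
  have hγadd : ∀ z w, γ (z + w) = γ z * γ w := fun z w => hr 1 z w
  have hγ0 : γ 0 = 1 := by
    have := hγadd 0 0
    rwa [add_zero, left_eq_mul] at this
  have hinvi : ∀ (i : ℕ) u v, β (ζ ^ i * u) (ζ ^ i * v) = β u v := by
    intro i
    induction i with
    | zero => intro u v; rw [pow_zero, one_mul, one_mul]
    | succ i ih => intro u v; rw [pow_succ', mul_assoc, mul_assoc, hinv, ih]
  have hpowβ : ∀ (i : ℕ) v, β (ζ ^ i) v = γ ((ζ ^ i)⁻¹ * v) := by
    intro i v
    have := hinvi i 1 ((ζ ^ i)⁻¹ * v)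
    rwa [mul_one, mul_inv_cancel_left₀ (pow_ne_zero i S.zeta_ne_zero)] at this
  have hex : ∀ u, ∃ z, ∀ v, β u v = γ (z * v) := by
    refine S.induction ⟨0, fun v => by rw [hl0, zero_mul, hγ0]⟩ ?_ fun i => ⟨_, hpowβ i⟩
    rintro x y ⟨z, hz⟩ ⟨w, hw⟩
    exact ⟨z + w, fun v => by rw [hl, hz, hw, ← hγadd, add_mul]⟩
  let g : Multiplicative F →* L :=
    { toFun := fun z => γ z.toAdd, map_one' := hγ0, map_mul' := fun z w => hγadd _ _ }
  refine ⟨g, fun u v => ?_, ?_⟩
  · obtain ⟨z, hz⟩ := hex u
    exact ⟨Multiplicative.ofAdd (z * v), (hz v).symm⟩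
  have hmul : Nat.card g.range * Nat.card g.ker = p ^ a := by
    rw [mul_comm, ← Subgroup.index_ker, Subgroup.card_mul_index, Nat.card_congr Multiplicative.toAdd,
      S.card]
  haveI := Fintype.ofFinite F
  have hapos := a_pos S.ne S.ord
  split_ifs with hodd
  · -- the map is trivial for odd `a`
    suffices hγ1 : ∀ z, γ z = 1 by
      rw [pow_zero]
      refine le_of_eq (Subgroup.card_eq_one.2 (MonoidHom.range_eq_bot_iff.2 ?_))
      exact MonoidHom.ext fun z => hγ1 z.toAdd
    by_contra hne
    push Not at hne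
    obtain ⟨w, hw⟩ := hne
    have huniq : ∀ z z', (∀ v, γ (z * v) = γ (z' * v)) → z = z' := by
      intro z z' h
      by_contra hzz
      have h1 := h ((z - z')⁻¹ * w)
      have h2 : z * ((z - z')⁻¹ * w) = z' * ((z - z')⁻¹ * w) + w := by
        rw [← sub_eq_iff_eq_add', ← sub_mul, mul_inv_cancel_left₀ (sub_ne_zero.2 hzz)]
      rw [h2, hγadd, mul_eq_left] at h1
      exact hw h1
    choose τ hτ using hex
    have hτpow : ∀ i : ℕ, τ (ζ ^ i) = (ζ ^ i)⁻¹ := fun i =>
      huniq _ _ fun v => (hτ _ v).symm.trans (hpowβ i v)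
    have hτadd : ∀ x y, τ (x + y) = τ x + τ y := fun x y =>
      huniq _ _ fun v => by rw [← hτ, add_mul, hγadd, ← hτ, ← hτ, hl]
    have hτ0 : τ 0 = 0 := by
      have := hτadd 0 0
      rwa [add_zero, left_eq_add] at this
    have hτ1 : τ 1 = 1 := by simpa using hτpow 0
    have hτmul : ∀ x y, τ (x * y) = τ x * τ y := by
      refine fun x => S.induction (P := fun x => ∀ y, τ (x * y) = τ x * τ y) ?_ ?_ ?_ x
      · intro y; rw [zero_mul, hτ0, zero_mul]
      · intro x x' hx hx' y; rw [add_mul, hτadd, hx, hx', hτadd, add_mul]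
      · intro i
        refine S.induction ?_ ?_ ?_
        · rw [mul_zero, hτ0, mul_zero]
        · intro y y' hy hy'; rw [mul_add, hτadd, hy, hy', hτadd, mul_add]
        · intro j; rw [← pow_add, hτpow, hτpow, hτpow, pow_add, mul_inv]
    let τr : F →+* F :=
      { toFun := τ, map_one' := hτ1, map_mul' := hτmul, map_zero' := hτ0, map_add' := hτadd }
    letI := ZMod.algebra F p
    let τa : F →ₐ[ZMod p] F :=
      { τr with commutes' := fun r => RingHom.congr_fun (Subsingleton.elim (τr.comp (algebraMap (ZMod p) F)) (algebraMap (ZMod p) F)) r }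
    obtain ⟨i, hi⟩ := (FiniteField.bijective_frobeniusAlgEquivOfAlgebraic_pow (ZMod p) F).2
      (AlgEquiv.ofBijective τa (Finite.injective_iff_bijective.1 τr.injective))
    have h1 : ζ ^ p ^ (i : ℕ) = ζ⁻¹ := by
      have h2 := DFunLike.congr_fun hi ζ
      rw [AlgEquiv.coe_pow, FiniteField.coe_frobeniusAlgEquivOfAlgebraic_iterate, ZMod.card] at h2
      refine h2.trans ?_
      show τ ζ = ζ⁻¹
      simpa using hτpow 1
    have h2 : (p : ZMod q) ^ (i : ℕ) = -1 := by
      have h3 : ζ ^ (p ^ (i : ℕ) + 1) = 1 := by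
        rw [pow_succ, h1, inv_mul_cancel₀ S.zeta_ne_zero]
      rw [← orderOf_dvd_iff_pow_eq_one, S.order, ← CharP.cast_eq_zero_iff (ZMod q) q] at h3
      push_cast at h3
      exact eq_neg_of_add_eq_zero_left h3
    have h4 : a ∣ 2 * (i : ℕ) := S.ord ▸ orderOf_dvd_of_pow_eq_one (by
      rw [mul_comm, pow_mul, h2, neg_one_sq])
    have h5 : a ∣ (i : ℕ) := ((Nat.odd_iff.2 hodd).coprime_two_right).dvd_of_dvd_mul_left h4
    have h6 : (p : ZMod q) ^ (i : ℕ) = 1 := orderOf_dvd_iff_pow_eq_one.1 (S.ord ▸ h5)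
    have hq2 : q = 2 := by
      rw [h6] at h2
      have h7 : ((2 : ℕ) : ZMod q) = 0 := by
        push_cast
        linear_combination h2
      exact (Nat.prime_dvd_prime_iff_eq hq.out Nat.prime_two).1
        ((CharP.cast_eq_zero_iff (ZMod q) q _).1 h7)
    -- then the field is the prime field
    have hζ : ζ = -1 := by
      have := S.zeta
      rw [hq2] at this
      exact (sq_eq_one_iff.1 this).resolve_left S.ne_one
    have hτid : ∀ u, τ u = u := by
      refine S.induction hτ0 (fun x y hx hy => by rw [hτadd, hx, hy]) fun i => ?_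
      rw [hτpow, hζ, ← inv_pow, inv_neg_one]
    refine hw ?_
    have h8 : γ 1 = 1 := halt 1
    have h9 : ∀ n : ℕ, γ (n • (1 : F)) = 1 := by
      intro n
      induction n with
      | zero => rw [zero_nsmul, hγ0]
      | succ n ih => rw [succ_nsmul, hγadd, ih, one_mul, h8]
    refine S.induction (P := fun u => γ u = 1) hγ0 (fun x y hx hy => by rw [hγadd, hx, hy, one_mul])
      (fun i => ?_) w
    rw [hζ]
    rcases Nat.even_or_odd i with h | h
    · rw [h.neg_one_pow]; exact h8
    · rw [h.neg_one_pow]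
      have h10 := hγadd (-1) 1
      rwa [neg_add_cancel, hγ0, h8, mul_one, eq_comm] at h10
  · -- for even `a` the map kills the norms
    obtain ⟨b, hb⟩ : ∃ b, a = 2 * b := ⟨a / 2, by omega⟩
    have hb2 : a / 2 = b := by omega
    rw [hb2]
    have hσ : ∀ i : ℕ, (ζ ^ i) ^ p ^ b = (ζ ^ i)⁻¹ := fun i => by
      refine eq_inv_of_mul_eq_one_left ?_
      rw [pow_right_comm, ← mul_pow, S.pow_half hb, one_pow]
    have hβ : ∀ u v, β u v = γ (u ^ p ^ b * v) := by
      refine S.induction (P := fun u => ∀ v, β u v = γ (u ^ p ^ b * v)) ?_ ?_ ?_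
      · intro v; rw [hl0, zero_pow (pow_ne_zero b hp.out.ne_zero), zero_mul, hγ0]
      · intro x y hx hy v; rw [hl, hx, hy, ← hγadd, add_pow_char_pow, add_mul]
      · intro i v; rw [hpowβ, hσ]
    have hN : ∀ u, γ (u ^ (p ^ b + 1)) = 1 := fun u => by
      rw [pow_succ, ← hβ, halt]
    -- there are at least `p ^ b` norms
    let N : F → g.ker := fun u => ⟨Multiplicative.ofAdd (u ^ (p ^ b + 1)), hN u⟩
    let ν : Fˣ →* Fˣ := powMonoidHom (p ^ b + 1)
    have hνker : Nat.card ν.ker ≤ p ^ b + 1 := by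
      let ι : ν.ker → {x : F | x ^ (p ^ b + 2) = 1 * x} := fun u => ⟨((u : Fˣ) : F), by
        have h := congrArg Units.val (MonoidHom.mem_ker.1 u.2)
        simp only [ν, powMonoidHom_apply, Units.val_pow_eq_pow_val, Units.val_one] at h
        show _ = _
        rw [pow_succ, h]⟩
      let ι' : Option ν.ker → {x : F | x ^ (p ^ b + 2) = 1 * x} := fun o => o.elim ⟨0, by simp⟩ ι
      have hι : Function.Injective ι' := by
        rintro (_ | u) (_ | v) h
        · rfl
        · exact absurd (congrArg Subtype.val h).symm ((v : Fˣ).ne_zero)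
        · exact absurd (congrArg Subtype.val h) ((u : Fˣ).ne_zero)
        · exact congrArg some (Subtype.ext (Units.ext (congrArg Subtype.val h)))
      have h1 := (Nat.card_le_card_of_injective ι' hι).trans
        (ncard_roots_le (by omega) 1 _ fun x hx => hx)
      rw [Finite.card_option] at h1
      omega
    let ι₂ : Option ν.range → g.ker := fun o =>
      o.elim ⟨Multiplicative.ofAdd 0, hγ0⟩ fun x => ⟨Multiplicative.ofAdd ((x : Fˣ) : F), by
        obtain ⟨u, hu⟩ := x.2
        show γ _ = 1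
        rw [toAdd_ofAdd, ← hu]
        exact hN u⟩
    have hι₂ : Function.Injective ι₂ := by
      rintro (_ | u) (_ | v) h
      · rfl
      · exact absurd (congrArg Subtype.val h).symm ((v : Fˣ).ne_zero)
      · exact absurd (congrArg Subtype.val h) ((u : Fˣ).ne_zero)
      · exact congrArg some (Subtype.ext (Units.ext (congrArg Subtype.val h)))
    have h2 := Nat.card_le_card_of_injective ι₂ hι₂
    rw [Finite.card_option] at h2
    have h3 : Nat.card ν.range * Nat.card ν.ker + 1 = p ^ a := by
      rw [mul_comm, ← Subgroup.index_ker, Subgroup.card_mul_index, Nat.card_units, S.card,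
        Nat.sub_add_cancel (Nat.one_le_pow _ _ hp.out.pos)]
    have h4 : p ^ b ≤ Nat.card ν.range + 1 := by
      have h5 : p ^ a = p ^ b * p ^ b := by rw [hb, two_mul, pow_add]
      by_contra hlt
      push Not at hlt
      have h6 : (Nat.card ν.range + 2) ≤ p ^ b := hlt
      nlinarith [Nat.mul_le_mul_left (Nat.card ν.range) hνker]
    have h5 : p ^ b ≤ Nat.card g.ker := h4.trans h2
    by_contra hlt
    push Not at hlt
    have h6 : p ^ a = p ^ b * p ^ b := by rw [hb, two_mul, pow_add]
    nlinarith [Nat.mul_le_mul h5 hlt.le, hmul, Nat.one_le_pow b p hp.out.pos]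

end Alternating

end CfsgLib.Solvable.SchmidtUniversal
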