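import Cfsg.Agent.Lib.Solvable.SchmidtUniversal.Field

/-!
An irreducible automorphism of prime order turns an elementary abelian group into a finite field.
-/

set_option linter.style.haveILetI false

namespace CfsgLib.Solvable.SchmidtUniversal

variable {p q a : ℕ} [hp : Fact p.Prime] [hq : Fact q.Prime]
variable {F : Type*} [Field F] [Finite F] {ζ : F}

theorem field_of_irreducible (S : Setup p q a F ζ) {V : Type*} [AddCommGroup V] [Finite V]
    [Nontrivial V] (T : AddMonoid.End V) (hT : T ^ q = 1) (hT1 : T ≠ 1) (hp0 : ∀ v : V, p • v = 0)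
    (hirr : ∀ U : AddSubgroup V, (∀ v ∈ U, T v ∈ U) → U = ⊥ ∨ U = ⊤) :
    ∃ (e : V ≃+ F) (i : ℕ), ¬ q ∣ i ∧ ∀ v, e ((T ^ i) v) = ζ * e v := by
  classical
  haveI := S.charP
  have hcomm : ∀ x ∈ ({T} : Set (AddMonoid.End V)), ∀ y ∈ ({T} : Set (AddMonoid.End V)), x * y = y * x := by
    rintro x rfl y rfl; rfl
  set R := Subring.closure ({T} : Set (AddMonoid.End V)) with hR
  letI : CommRing R := Subring.closureCommRingOfComm hcomm
  let τ : R := ⟨T, Subring.subset_closure rfl⟩
  have hinj : ∀ f : R, f ≠ 0 → Function.Injective (f : AddMonoid.End V) := by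
    intro f hf
    have hcT : (f : AddMonoid.End V) * T = T * (f : AddMonoid.End V) :=
      congrArg Subtype.val (mul_comm f τ)
    rcases hirr (AddMonoidHom.ker (f : V →+ V)) (fun v hv => by
        show (f : AddMonoid.End V) (T v) = 0
        have h1 := DFunLike.congr_fun hcT v
        refine h1.trans ?_
        show T ((f : AddMonoid.End V) v) = 0
        rw [show (f : AddMonoid.End V) v = 0 from hv, map_zero]) with h | h
    · exact (AddMonoidHom.ker_eq_bot_iff _).1 h
    · exact absurd (Subtype.ext (DFunLike.ext _ _ fun v => (show (f : AddMonoid.End V) v = 0 from h.ge (AddSubgroup.mem_top v)))) hf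
  haveI : Nontrivial R := ⟨⟨0, 1, fun h => by
    obtain ⟨v, hv⟩ := exists_ne (0 : V)
    exact hv (DFunLike.congr_fun (congrArg Subtype.val h) v).symm⟩⟩
  haveI : NoZeroDivisors R := ⟨fun {f g} hfg => by
    by_contra hne
    push Not at hne
    refine hne.2 (Subtype.ext (DFunLike.ext _ _ fun v => hinj f hne.1 ?_))
    have h1 := DFunLike.congr_fun (congrArg Subtype.val hfg) v
    refine h1.trans ?_
    show (0 : V) = _
    exact (map_zero (f : AddMonoid.End V)).symm⟩
  haveI : IsDomain R := NoZeroDivisors.to_isDomain R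
  haveI : Finite (AddMonoid.End V) := Finite.of_injective _ DFunLike.coe_injective
  haveI := Fintype.ofFinite R
  letI : Field R := Fintype.fieldOfDomain R
  haveI : CharP R p := by
    refine (CharP.charP_iff_prime_eq_zero hp.out).2 (Subtype.ext ?_)
    refine DFunLike.ext _ _ fun v => ?_
    show ((p : R) : AddMonoid.End V) v = 0
    rw [SubringClass.coe_natCast, AddMonoid.End.natCast_apply, hp0]
  have hτ : orderOf τ = q := orderOf_eq_prime (Subtype.ext hT) fun h => hT1 (congrArg Subtype.val h)
  have hgen : Subring.closure ({τ} : Set R) = ⊤ := by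
    refine eq_top_iff.2 fun x _ => ?_
    obtain ⟨y, hy, hyx⟩ := (Subring.closure ({τ} : Set R)).mem_map.1 (show (x : AddMonoid.End V) ∈
        (Subring.closure ({τ} : Set R)).map R.subtype by
      rw [RingHom.map_closure, Set.image_singleton]; exact x.2)
    rwa [← Subtype.ext (show (y : AddMonoid.End V) = x from hyx)]
  have hcardR : Nat.card R = p ^ a := by
    rw [← card_closure S.ord S.ne hτ, hgen]
    exact (Nat.card_congr Subring.topEquiv.toEquiv).symm
  obtain ⟨v₀, hv₀⟩ := exists_ne (0 : V)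
  let ev : R →+ V :=
    { toFun := fun f => (f : AddMonoid.End V) v₀, map_zero' := rfl, map_add' := fun f g => rfl }
  have hev : Function.Bijective ev := by
    constructor
    · refine (injective_iff_map_eq_zero ev).2 fun f hf => by_contra fun hne => ?_
      exact hv₀ (hinj f hne (hf.trans (map_zero (f : AddMonoid.End V)).symm))
    · refine AddMonoidHom.range_eq_top.1 ((hirr ev.range ?_).resolve_left fun h => ?_)
      · rintro v ⟨f, rfl⟩
        exact ⟨τ * f, rfl⟩
      · exact hv₀ ((AddSubgroup.eq_bot_iff_forall _).1 h v₀ ⟨1, rfl⟩)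
  haveI := Fintype.ofFinite F
  let φ : R ≃+* F := FiniteField.ringEquivOfCardEq (by
    rw [← Nat.card_eq_fintype_card, ← Nat.card_eq_fintype_card, hcardR, S.card])
  have hφ : IsPrimitiveRoot (φ τ) q := by
    have h1 : orderOf (φ τ) = q :=
      (orderOf_injective φ.toMulEquiv.toMonoidHom φ.injective τ).trans hτ
    exact h1 ▸ IsPrimitiveRoot.orderOf (φ τ)
  haveI : NeZero q := ⟨hq.out.ne_zero⟩
  obtain ⟨i, -, hi⟩ := hφ.eq_pow_of_pow_eq_one S.zeta
  refine ⟨(AddEquiv.ofBijective ev hev).symm.trans φ.toAddEquiv, i, fun ⟨k, hk⟩ => S.ne_one ?_,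
    fun v => ?_⟩
  · rw [← hi, hk, pow_mul, hφ.pow_eq_one, one_pow]
  obtain ⟨f, rfl⟩ := hev.2 v
  have h1 : (T ^ i) (ev f) = ev (τ ^ i * f) := by
    show (T ^ i) ((f : AddMonoid.End V) v₀) = ((τ ^ i * f : R) : AddMonoid.End V) v₀
    rw [Subring.coe_mul, SubmonoidClass.coe_pow]
    rfl
  have h2 : ∀ g : R, (AddEquiv.ofBijective ev hev).symm (ev g) = g := fun g =>
    (AddEquiv.ofBijective ev hev).symm_apply_apply g
  show φ ((AddEquiv.ofBijective ev hev).symm ((T ^ i) (ev f))) =
    ζ * φ ((AddEquiv.ofBijective ev hev).symm (ev f))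
  rw [h1, h2, h2, map_mul, map_pow, hi]

end CfsgLib.Solvable.SchmidtUniversal
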