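import Cfsg.Agent.Lib.Solvable.SchmidtUniversal.Field
import Cfsg.Agent.Lib.Fusion.Basic
import Cfsg.Agent.Lib.Solvable.FPFNilpotent
import Cfsg.Prelude.Def_Transfer

/-!
The standard minimal non-`p`-nilpotent groups: the quotient `F ⋊ C` and its largest central
extension.
-/

open scoped commutatorElement
open Subgroup

universe u_1

set_option linter.style.haveILetI false

namespace CfsgLib.Solvable.SchmidtUniversal

section CycHom

variable {M : Type*} [Monoid M] {n : ℕ} [NeZero n]

/-- The homomorphism from the cyclic group of order `n` determined by an element `x` with `x ^ n = 1`. -/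
def cycHom (x : M) (h : x ^ n = 1) : Multiplicative (ZMod n) →* M where
  toFun k := x ^ k.toAdd.val
  map_one' := by rw [toAdd_one, ZMod.val_zero, pow_zero]
  map_mul' k l := by
    rw [toAdd_mul, ZMod.val_add, ← pow_eq_pow_mod _ h, pow_add]

theorem cycHom_ofAdd (x : M) (h : x ^ n = 1) (i : ℕ) :
    cycHom x h (Multiplicative.ofAdd (i : ZMod n)) = x ^ i := by
  show x ^ (i : ZMod n).val = x ^ i
  rw [ZMod.val_natCast, ← pow_eq_pow_mod _ h]

theorem cycHom_gen (x : M) (h : x ^ n = 1) :
    cycHom x h (Multiplicative.ofAdd (1 : ZMod n)) = x := by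
  simpa using cycHom_ofAdd x h 1

theorem hom_ext {N : Type*} [Monoid N] {f g : Multiplicative (ZMod n) →* N}
    (h : f (Multiplicative.ofAdd 1) = g (Multiplicative.ofAdd 1)) : f = g := by
  refine MonoidHom.ext fun k => ?_
  have hk : k = Multiplicative.ofAdd (1 : ZMod n) ^ k.toAdd.val := by
    rw [← ofAdd_nsmul, nsmul_eq_mul, mul_one, ZMod.natCast_zmod_val, ofAdd_toAdd]
  rw [hk, map_pow, map_pow, h]

end CycHom

variable {p q a r : ℕ} [hp : Fact p.Prime] [hq : Fact q.Prime]
variable {F : Type u_1} [Field F] [Finite F] {ζ : F}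

section Base

variable (S : Setup p q a F ζ)

/-- Multiplication by `ζ` as an automorphism of the multiplicative copy of `F`. -/
def zetaAut : MulAut (Multiplicative F) where
  toFun x := Multiplicative.ofAdd (ζ * x.toAdd)
  invFun x := Multiplicative.ofAdd (ζ⁻¹ * x.toAdd)
  left_inv x := by simp [inv_mul_cancel_left₀ S.zeta_ne_zero]
  right_inv x := by simp [mul_inv_cancel_left₀ S.zeta_ne_zero]
  map_mul' x y := by rw [toAdd_mul, mul_add, ofAdd_add]

theorem zetaAut_apply (x : Multiplicative F) : zetaAut S x = Multiplicative.ofAdd (ζ * x.toAdd) := rfl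

theorem zetaAut_pow (i : ℕ) (x : Multiplicative F) :
    (zetaAut S ^ i) x = Multiplicative.ofAdd (ζ ^ i * x.toAdd) := by
  induction i with
  | zero => rw [pow_zero, pow_zero, one_mul, MulAut.one_apply, ofAdd_toAdd]
  | succ i ih => rw [pow_succ', MulAut.mul_apply, ih, zetaAut_apply, toAdd_ofAdd, pow_succ', mul_assoc]

variable (r) in
theorem zetaAut_pow_one (hr : 1 ≤ r) : zetaAut S ^ (q ^ r) = 1 := by
  refine MulEquiv.ext fun x => ?_
  obtain ⟨k, hk⟩ := dvd_pow_self q (show r ≠ 0 by omega)
  rw [zetaAut_pow, hk, pow_mul, S.zeta, one_pow, one_mul, ofAdd_toAdd, MulAut.one_apply]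

variable (hr : 1 ≤ r)

/-- The action defining the common quotient of all minimal non-`p`-nilpotent groups of the given type. -/
def baseAct : Multiplicative (ZMod (q ^ r)) →* MulAut (Multiplicative F) :=
  haveI : NeZero (q ^ r) := ⟨pow_ne_zero r hq.out.ne_zero⟩
  cycHom (zetaAut S) (zetaAut_pow_one r S hr)

/-- The common quotient. -/
abbrev Base : Type _ := Multiplicative F ⋊[baseAct S hr] Multiplicative (ZMod (q ^ r))

theorem baseAct_apply (k : Multiplicative (ZMod (q ^ r))) (v : Multiplicative F) :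
    baseAct S hr k v = Multiplicative.ofAdd (ζ ^ k.toAdd.val * v.toAdd) :=
  zetaAut_pow S _ v

theorem card_base : Nat.card (Base S hr) = p ^ a * q ^ r := by
  rw [SemidirectProduct.card, Nat.card_congr Multiplicative.toAdd, S.card,
    Nat.card_congr Multiplicative.toAdd, Nat.card_zmod]

instance : Finite (Base S hr) :=
  Nat.finite_of_card_ne_zero (by
    rw [card_base]; exact mul_ne_zero (pow_ne_zero _ hp.out.ne_zero) (pow_ne_zero _ hq.out.ne_zero))

theorem base_subgroup_comm (K : Subgroup (Base S hr)) (hK : K ≠ ⊤) : ∀ x ∈ K, ∀ y ∈ K, x * y = y * x := by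
  haveI : NeZero (q ^ r) := ⟨pow_ne_zero r hq.out.ne_zero⟩
  have htriv : ∀ k : Multiplicative (ZMod (q ^ r)), q ∣ k.toAdd.val → ∀ v, baseAct S hr k v = v := by
    intro k ⟨c, hc⟩ v
    rw [baseAct_apply, hc, pow_mul, S.zeta, one_pow, one_mul, ofAdd_toAdd]
  by_cases hall : ∀ x ∈ K, q ∣ x.right.toAdd.val
  · intro x hx y hy
    refine SemidirectProduct.ext ?_ ?_
    · rw [SemidirectProduct.mul_left, SemidirectProduct.mul_left, htriv _ (hall x hx),
        htriv _ (hall y hy), mul_comm]
    · rw [SemidirectProduct.mul_right, SemidirectProduct.mul_right, mul_comm]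
  push Not at hall
  obtain ⟨x, hx, hxq⟩ := hall
  -- the intersection with the normal subgroup is an ideal
  let I : Set F := {v | SemidirectProduct.inl (Multiplicative.ofAdd v) ∈ K}
  have hI0 : (0 : F) ∈ I := by
    show SemidirectProduct.inl (Multiplicative.ofAdd (0 : F)) ∈ K
    rw [ofAdd_zero, map_one]; exact one_mem K
  have hIadd : ∀ v w, v ∈ I → w ∈ I → v + w ∈ I := fun v w hv hw => by
    show SemidirectProduct.inl (Multiplicative.ofAdd (v + w)) ∈ K
    rw [ofAdd_add, map_mul]; exact mul_mem hv hw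
  set z := ζ ^ x.right.toAdd.val with hz
  have hIz : ∀ v ∈ I, z * v ∈ I := fun v hv => by
    have h1 : x * SemidirectProduct.inl (Multiplicative.ofAdd v) * x⁻¹ ∈ K :=
      mul_mem (mul_mem hx hv) (inv_mem hx)
    have h2 : x * SemidirectProduct.inl (Multiplicative.ofAdd v) * x⁻¹ =
        SemidirectProduct.inl (Multiplicative.ofAdd (z * v)) := by
      rw [mul_inv_eq_iff_eq_mul]
      refine SemidirectProduct.ext ?_ ?_
      · simp only [SemidirectProduct.mul_left, SemidirectProduct.left_inl, SemidirectProduct.right_inl,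
          baseAct_apply, toAdd_ofAdd, map_one, MulAut.one_apply, hz]
        rw [mul_comm]
      · simp
    rwa [h2] at h1
  have hzord : orderOf z = q := by
    refine orderOf_eq_prime ?_ ?_
    · rw [hz, pow_right_comm, S.zeta, one_pow]
    · intro h
      rw [hz, ← orderOf_dvd_iff_pow_eq_one, S.order] at h
      exact hxq h
  have S' : Setup p q a F z := ⟨S.card, S.ord, S.ne, hzord ▸ pow_orderOf_eq_one z,
    fun h => by rw [h, orderOf_one] at hzord; exact hq.out.one_lt.ne hzord⟩
  have hImul : ∀ u : F, ∀ v ∈ I, u * v ∈ I := by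
    refine S'.induction ?_ ?_ ?_
    · intro v _; rw [zero_mul]; exact hI0
    · intro u w hu hw v hv; rw [add_mul]; exact hIadd _ _ (hu v hv) (hw v hv)
    · intro i
      induction i with
      | zero => intro v hv; rwa [pow_zero, one_mul]
      | succ i ih => intro v hv; rw [pow_succ', mul_assoc]; exact hIz _ (ih v hv)
  by_cases hIne : ∃ v ∈ I, v ≠ 0
  · obtain ⟨v, hv, hv0⟩ := hIne
    have hinl : ∀ w : Multiplicative F, SemidirectProduct.inl w ∈ K := fun w => by
      have h1 : (w.toAdd * v⁻¹) * v ∈ I := hImul _ v hv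
      rw [inv_mul_cancel_right₀ hv0] at h1
      have h2 : SemidirectProduct.inl (Multiplicative.ofAdd w.toAdd) ∈ K := h1
      rwa [ofAdd_toAdd] at h2
    have hinr : SemidirectProduct.inr x.right ∈ K := by
      have h1 : (SemidirectProduct.inl x.left)⁻¹ * x ∈ K := mul_mem (inv_mem (hinl _)) hx
      have e : (SemidirectProduct.inl x.left)⁻¹ * x = SemidirectProduct.inr x.right := by
        rw [inv_mul_eq_iff_eq_mul]; exact (SemidirectProduct.inl_left_mul_inr_right x).symm
      rwa [e] at h1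
    refine absurd (eq_top_iff.2 fun y _ => ?_) hK
    rw [← SemidirectProduct.inl_left_mul_inr_right y]
    refine mul_mem (hinl _) ?_
    have hord : orderOf x.right = q ^ r := by
      have hcardC : Nat.card (Multiplicative (ZMod (q ^ r))) = q ^ r := by
        rw [Nat.card_congr Multiplicative.toAdd, Nat.card_zmod]
      refine Nat.dvd_antisymm ((_root_.orderOf_dvd_natCard _).trans (dvd_of_eq hcardC)) ?_
      · obtain ⟨e, he, h⟩ := (Nat.dvd_prime_pow hq.out).1
          ((_root_.orderOf_dvd_natCard x.right).trans (dvd_of_eq hcardC))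
        rcases eq_or_lt_of_le he with her | hlt
        · exact dvd_of_eq (((congrArg (fun k => q ^ k) her).symm).trans h.symm)
        exfalso
        refine hxq ?_
        have h1 : x.right ^ q ^ (r - 1) = 1 := by
          rw [← orderOf_dvd_iff_pow_eq_one, h]; exact pow_dvd_pow q (by omega)
        have h2 := congrArg Multiplicative.toAdd h1
        rw [toAdd_pow, toAdd_one, ← ZMod.natCast_zmod_val x.right.toAdd, nsmul_eq_mul,
          ← Nat.cast_mul, CharP.cast_eq_zero_iff (ZMod (q ^ r)) (q ^ r)] at h2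
        have h3 : q ^ r = q ^ (r - 1) * q := by
          rw [← pow_succ, Nat.sub_add_cancel hr]
        exact Nat.dvd_of_mul_dvd_mul_left (pow_pos hq.out.pos _) ((dvd_of_eq h3.symm).trans h2)
    have htop : zpowers x.right = ⊤ := Subgroup.eq_top_of_card_eq _ (by
      rw [Nat.card_zpowers, hord, Nat.card_congr Multiplicative.toAdd, Nat.card_zmod])
    obtain ⟨j, hj⟩ := mem_zpowers_iff.1 (htop.ge (mem_top y.right))
    rw [← hj, map_zpow]
    exact zpow_mem hinr j
  push Not at hIne
  intro y hy w hw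
  have hinj : ∀ s ∈ K, s.right = 1 → s = 1 := fun s hs h => by
    have h2 : s = SemidirectProduct.inl (Multiplicative.ofAdd s.left.toAdd) :=
      SemidirectProduct.ext (by simp) (by simpa using h)
    have h1 : s.left.toAdd ∈ I := h2 ▸ hs
    rw [h2, hIne _ h1, ofAdd_zero, map_one]
  rw [← mul_inv_eq_one]
  refine hinj _ (mul_mem (mul_mem hy hw) (inv_mem (mul_mem hw hy))) ?_
  simp only [SemidirectProduct.mul_right, SemidirectProduct.inv_right]
  rw [mul_comm y.right, mul_inv_cancel]

theorem base_not_npc : ¬ Cfsg.HasNormalPComplement p (Base S hr) := by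
  haveI : NeZero (q ^ r) := ⟨pow_ne_zero r hq.out.ne_zero⟩
  intro h
  set c : Base S hr := SemidirectProduct.inr (Multiplicative.ofAdd (1 : ZMod (q ^ r))) with hc
  set v : Base S hr := SemidirectProduct.inl (Multiplicative.ofAdd (1 : F)) with hv
  set N := Cfsg.pResidual p (Base S hr)
  have hcN : c ∈ N := by
    refine (Fusion.Basic.mem_pResidual_iff h).2 (Nat.Coprime.coprime_dvd_left ?_
      (((Nat.coprime_primes hq.out hp.out).2 S.ne.symm).pow_left r))
    refine orderOf_dvd_of_pow_eq_one ?_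
    rw [hc, ← map_pow, ← ofAdd_nsmul, nsmul_eq_mul, mul_one, ZMod.natCast_self, ofAdd_zero, map_one]
  have h1 : v * c * v⁻¹ * c⁻¹ ∈ N :=
    mul_mem ((inferInstance : N.Normal).conj_mem c hcN v) (inv_mem hcN)
  have h2 : v * c * v⁻¹ * c⁻¹ = SemidirectProduct.inl (Multiplicative.ofAdd (1 - ζ)) := by
    have h5 : c * v * c⁻¹ = SemidirectProduct.inl (Multiplicative.ofAdd ζ) := by
      rw [hc, hv, ← map_inv, ← SemidirectProduct.inl_aut]
      congr 1
      show cycHom (zetaAut S) _ (Multiplicative.ofAdd (1 : ZMod (q ^ r))) _ = _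
      rw [cycHom_gen, zetaAut_apply, toAdd_ofAdd, mul_one]
    calc v * c * v⁻¹ * c⁻¹ = v * (c * v * c⁻¹)⁻¹ := by group
      _ = _ := by rw [h5, hv, ← map_inv, ← map_mul, ← ofAdd_neg, ← ofAdd_add, ← sub_eq_add_neg]
  rw [h2] at h1
  have h3 := (Fusion.Basic.mem_pResidual_iff h).1 h1
  rw [orderOf_injective _ SemidirectProduct.inl_injective, orderOf_ofAdd_eq_addOrderOf,
    addOrderOf_eq_prime (S.nsmul_p _) (sub_ne_zero.2 (Ne.symm S.ne_one))] at h3
  exact hp.out.one_lt.ne (Nat.coprime_self p |>.1 h3).symm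

/-- A group whose Frattini subgroup contains the central kernel of a map onto the common quotient is
minimal non-`p`-nilpotent. -/
theorem minimal_of_cover {Y : Type*} [Group Y] [Finite Y] (π : Y →* Base S hr)
    (hπ : Function.Surjective π) (hker : π.ker ≤ center Y)
    (hfr : ∀ H : Subgroup Y, H.map π = ⊤ → H = ⊤) :
    ¬ Cfsg.HasNormalPComplement p Y ∧ ∀ K : Subgroup Y, K ≠ ⊤ → Cfsg.HasNormalPComplement p ↥K := by
  refine ⟨fun h => base_not_npc S hr (Fusion.Basic.npc_of_surjective π hπ h), fun K hK => ?_⟩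
  have hne : K.map π ≠ ⊤ := fun h => hK (hfr K h)
  have hcomm : IsMulCommutative (K.map π) :=
    ⟨⟨fun x y => Subtype.ext (base_subgroup_comm S hr _ hne _ x.2 _ y.2)⟩⟩
  letI : CommGroup (K.map π) := { (inferInstance : Group (K.map π)) with mul_comm := mul_comm' }
  haveI : Group.IsNilpotent K := by
    refine Subgroup.isNilpotent_of_ker_le_center (π.subgroupMap K) (fun x hx => ?_)
    refine mem_center_iff.2 fun y => Subtype.ext ?_
    exact mem_center_iff.1 (hker (show (x : Y) ∈ π.ker from congrArg Subtype.val hx)) (y : Y)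
  exact CfsgLib.Solvable.FPFNilpotent.npc_of_nilpotent p

end Base

/-- The cocycle data of a central extension of `F` by `W`. -/
structure Cocycle (ζ : F) (W : Type*) [AddCommGroup W] where
  f : F →+ F →+ W
  inv : ∀ x y, f (ζ * x) (ζ * y) = f x y

variable {W : Type*} [AddCommGroup W]

/-- The central extension of `F` by `W`. -/
@[ext]
structure Ext (c : Cocycle ζ W) where
  fst : F
  snd : W

namespace Ext

variable {c : Cocycle ζ W}

instance : Mul (Ext c) := ⟨fun x y => ⟨x.fst + y.fst, x.snd + y.snd + c.f x.fst y.fst⟩⟩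
instance : One (Ext c) := ⟨⟨0, 0⟩⟩
instance : Inv (Ext c) := ⟨fun x => ⟨-x.fst, -x.snd + c.f x.fst x.fst⟩⟩

@[simp] theorem mul_fst (x y : Ext c) : (x * y).fst = x.fst + y.fst := rfl
@[simp] theorem mul_snd (x y : Ext c) : (x * y).snd = x.snd + y.snd + c.f x.fst y.fst := rfl
@[simp] theorem one_fst : (1 : Ext c).fst = 0 := rfl
@[simp] theorem one_snd : (1 : Ext c).snd = 0 := rfl
@[simp] theorem inv_fst (x : Ext c) : x⁻¹.fst = -x.fst := rfl
@[simp] theorem inv_snd (x : Ext c) : x⁻¹.snd = -x.snd + c.f x.fst x.fst := rfl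

instance : Group (Ext c) := Group.ofLeftAxioms
  (fun x y z => by ext <;> simp [add_assoc]; abel)
  (fun x => by ext <;> simp)
  (fun x => by ext <;> simp)

/-- The equivalence with the product. -/
def equivProd (c : Cocycle ζ W) : Ext c ≃ F × W where
  toFun x := (x.fst, x.snd)
  invFun x := ⟨x.1, x.2⟩

instance [Finite W] : Finite (Ext c) := Finite.of_equiv _ (equivProd c).symm

/-- The action of `ζ`. -/
def aut (S : Setup p q a F ζ) (c : Cocycle ζ W) : MulAut (Ext c) where
  toFun x := ⟨ζ * x.fst, x.snd⟩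
  invFun x := ⟨ζ⁻¹ * x.fst, x.snd⟩
  left_inv x := by ext <;> simp [inv_mul_cancel_left₀ S.zeta_ne_zero]
  right_inv x := by ext <;> simp [mul_inv_cancel_left₀ S.zeta_ne_zero]
  map_mul' x y := by ext <;> simp [mul_add, c.inv]

/-- The projection to `F`. -/
def proj (c : Cocycle ζ W) : Ext c →* Multiplicative F where
  toFun x := Multiplicative.ofAdd x.fst
  map_one' := rfl
  map_mul' _ _ := rfl

theorem aut_pow (S : Setup p q a F ζ) (i : ℕ) (x : Ext c) : (aut S c ^ i) x = ⟨ζ ^ i * x.fst, x.snd⟩ := by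
  induction i with
  | zero => ext <;> simp
  | succ i ih => rw [pow_succ', MulAut.mul_apply, ih]; ext <;> simp [aut, pow_succ', mul_assoc]

end Ext

variable (S : Setup p q a F ζ) (hr : 1 ≤ r)

include hr in
theorem ext_aut_pow_one (c : Cocycle ζ W) : Ext.aut S c ^ (q ^ r) = 1 := by
  refine MulEquiv.ext fun x => ?_
  obtain ⟨k, hk⟩ := dvd_pow_self q (show r ≠ 0 by omega)
  rw [Ext.aut_pow, hk, pow_mul, S.zeta, one_pow, one_mul, MulAut.one_apply]

/-- The action on the extension. -/
def coverAct (c : Cocycle ζ W) : Multiplicative (ZMod (q ^ r)) →* MulAut (Ext c) :=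
  haveI : NeZero (q ^ r) := ⟨pow_ne_zero r hq.out.ne_zero⟩
  cycHom (Ext.aut S c) (ext_aut_pow_one S hr c)

/-- The covering group. -/
abbrev Cover (c : Cocycle ζ W) : Type _ := Ext c ⋊[coverAct S hr c] Multiplicative (ZMod (q ^ r))

theorem card_cover (c : Cocycle ζ W) : Nat.card (Cover S hr c) = p ^ a * Nat.card W * q ^ r := by
  rw [SemidirectProduct.card, Nat.card_congr (Ext.equivProd c), Nat.card_prod, S.card,
    Nat.card_congr Multiplicative.toAdd, Nat.card_zmod]

instance [Finite W] (c : Cocycle ζ W) : Finite (Cover S hr c) :=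
  Nat.finite_of_card_ne_zero (by
    rw [card_cover]
    exact mul_ne_zero (mul_ne_zero (pow_ne_zero _ hp.out.ne_zero) Nat.card_pos.ne') (pow_ne_zero _ hq.out.ne_zero))

/-- The map onto the common quotient. -/
def coverMap (c : Cocycle ζ W) : Cover S hr c →* Base S hr :=
  SemidirectProduct.map (Ext.proj c) (MonoidHom.id _) fun k => MonoidHom.ext fun x => by
    show Multiplicative.ofAdd ((coverAct S hr c k) x).fst = baseAct S hr k (Ext.proj c x)
    rw [baseAct_apply]
    show Multiplicative.ofAdd ((Ext.aut S c ^ k.toAdd.val) x).fst = _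
    rw [Ext.aut_pow]
    rfl

theorem coverMap_surjective (c : Cocycle ζ W) : Function.Surjective (coverMap S hr c) :=
  fun y => ⟨⟨⟨y.left.toAdd, 0⟩, y.right⟩, rfl⟩

theorem coverMap_ker (c : Cocycle ζ W) : (coverMap S hr c).ker ≤ center (Cover S hr c) := by
  intro x hx
  have h1 : x.left.fst = 0 := congrArg (fun y : Base S hr => y.left.toAdd) (MonoidHom.mem_ker.1 hx)
  have h2 : x.right = 1 := congrArg (fun y : Base S hr => y.right) (MonoidHom.mem_ker.1 hx)
  have hfix : ∀ k, coverAct S hr c k x.left = x.left := fun k => by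
    show (Ext.aut S c ^ k.toAdd.val) x.left = x.left
    rw [Ext.aut_pow, h1, mul_zero]
    exact Ext.ext h1.symm rfl
  refine mem_center_iff.2 fun y => SemidirectProduct.ext ?_ ?_
  · rw [SemidirectProduct.mul_left, SemidirectProduct.mul_left, h2, map_one, MulAut.one_apply, hfix]
    ext <;> simp [h1, add_comm]
  · simp [h2]

/-- If the commutators generate `W`, no proper subgroup covers the common quotient. -/
theorem cover_frattini (c : Cocycle ζ W)
    (hgen : AddSubgroup.closure {w | ∃ x y, w = c.f x y - c.f y x} = ⊤)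
    (H : Subgroup (Cover S hr c)) (hH : H.map (coverMap S hr c) = ⊤) : H = ⊤ := by
  have hdec : ∀ y, ∃ h ∈ H, ∃ z ∈ (coverMap S hr c).ker, y = h * z := fun y => by
    obtain ⟨h, hh, he⟩ := hH.ge (mem_top (coverMap S hr c y))
    exact ⟨h, hh, h⁻¹ * y, by rw [MonoidHom.mem_ker, map_mul, map_inv, he, inv_mul_cancel],
      (mul_inv_cancel_left _ _).symm⟩
  have hcommmem : ∀ y₁ y₂ : Cover S hr c, ⁅y₁, y₂⁆ ∈ H := by
    intro y₁ y₂
    obtain ⟨h₁, hh₁, z₁, hz₁, rfl⟩ := hdec y₁
    obtain ⟨h₂, hh₂, z₂, hz₂, rfl⟩ := hdec y₂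
    have hc₁ := fun g => (mem_center_iff.1 (coverMap_ker S hr c hz₁) g)
    have hc₂ := fun g => (mem_center_iff.1 (coverMap_ker S hr c hz₂) g)
    have h3 : ⁅h₁ * z₁, h₂ * z₂⁆ = ⁅h₁, h₂⁆ := by
      simp only [commutatorElement_def, mul_inv_rev]
      calc h₁ * z₁ * (h₂ * z₂) * (z₁⁻¹ * h₁⁻¹) * (z₂⁻¹ * h₂⁻¹)
          = h₁ * (h₂ * z₂ * z₁) * (z₁⁻¹ * h₁⁻¹) * (z₂⁻¹ * h₂⁻¹) := by
            rw [hc₁ (h₂ * z₂)]; group
        _ = h₁ * h₂ * (h₁⁻¹ * z₂) * (z₂⁻¹ * h₂⁻¹) := by rw [hc₂ h₁⁻¹]; group
        _ = h₁ * h₂ * h₁⁻¹ * h₂⁻¹ := by group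
    rw [h3]
    exact mul_mem (mul_mem (mul_mem hh₁ hh₂) (inv_mem hh₁)) (inv_mem hh₂)
  have hW : ∀ w : W, SemidirectProduct.inl (⟨0, w⟩ : Ext c) ∈ H := by
    intro w
    have hw : w ∈ AddSubgroup.closure {w | ∃ x y, w = c.f x y - c.f y x} := hgen.ge (AddSubgroup.mem_top w)
    induction hw using AddSubgroup.closure_induction with
    | mem v hv =>
      obtain ⟨x, y, rfl⟩ := hv
      have h4 := hcommmem (SemidirectProduct.inl (⟨x, 0⟩ : Ext c)) (SemidirectProduct.inl (⟨y, 0⟩ : Ext c))
      rw [← map_commutatorElement] at h4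
      convert h4 using 2
      rw [commutatorElement_def]
      ext <;> simp
      abel
    | zero => rw [show (⟨0, 0⟩ : Ext c) = 1 from rfl, map_one]; exact one_mem H
    | add v u _ _ hv hu =>
      have h4 := mul_mem hv hu
      rw [← map_mul] at h4
      convert h4 using 2
      ext <;> simp
    | neg v _ hv =>
      have h4 := inv_mem hv
      rw [← map_inv] at h4
      convert h4 using 2
      ext <;> simp
  refine eq_top_iff.2 fun y _ => ?_
  obtain ⟨h, hh, z, hz, rfl⟩ := hdec y
  refine mul_mem hh ?_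
  have h1 : z.left.fst = 0 := congrArg (fun y : Base S hr => y.left.toAdd) (MonoidHom.mem_ker.1 hz)
  have h2 : z.right = 1 := congrArg (fun y : Base S hr => y.right) (MonoidHom.mem_ker.1 hz)
  have h5 : z = SemidirectProduct.inl (⟨0, z.left.snd⟩ : Ext c) :=
    SemidirectProduct.ext (Ext.ext h1 rfl) h2
  rw [h5]
  exact hW _

/-- The trivial cocycle. -/
def trivCocycle : Cocycle ζ PUnit.{1} where
  f := 0
  inv _ _ := rfl

/-- Some cover attains the largest order. -/
theorem exists_cover :
    ∃ (G : Type u_1) (_ : Group G) (_ : Finite G) (π : G →* Base S hr),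
      Function.Surjective π ∧ π.ker ≤ center G ∧ (∀ H : Subgroup G, H.map π = ⊤ → H = ⊤) ∧
      Nat.card G = p ^ (a + if a % 2 = 1 then 0 else a / 2) * q ^ r := by
  classical
  haveI := S.charP
  have hapos := a_pos S.ne S.ord
  split_ifs with hodd
  · refine ⟨Cover S hr (trivCocycle (ζ := ζ)), inferInstance, inferInstance, coverMap S hr _,
      coverMap_surjective S hr _, coverMap_ker S hr _,
      cover_frattini S hr _ (Subsingleton.elim _ _), ?_⟩
    rw [card_cover, Nat.card_unique, mul_one, add_zero]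
  obtain ⟨b, hb⟩ : ∃ b, a = 2 * b := ⟨a / 2, by omega⟩
  rw [show a / 2 = b by omega]
  set σ := iterateFrobenius F p b with hσdef
  have hσ : ∀ x, σ x = x ^ p ^ b := iterateFrobenius_def p b
  have hσσ : ∀ x, σ (σ x) = x := fun x => by
    rw [hσ, hσ, ← pow_mul, ← pow_add, ← two_mul, ← hb, S.pow_card_self]
  have hσζ : ζ * σ ζ = 1 := by rw [hσ, mul_comm, S.pow_half hb]
  have hN : 1 < p ^ b := Nat.one_lt_pow (by omega) hp.out.one_lt
  let D : F →+ F := AddMonoidHom.id F - σ.toAddMonoidHom
  let T : F →+ F := AddMonoidHom.id F + σ.toAddMonoidHom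
  have hpa : p ^ a = p ^ b * p ^ b := by rw [hb, two_mul, pow_add]
  -- some element has trace one
  obtain ⟨θ, hθ⟩ : ∃ θ, θ + σ θ = 1 := by
    have hTker : Nat.card (T.ker : Set F) ≤ p ^ b := ncard_roots_le hN (-1) _ fun x hx => by
      have h1 : x + σ x = 0 := hx
      rw [← hσ, neg_one_mul]
      exact eq_neg_of_add_eq_zero_right h1
    obtain ⟨z, hz⟩ : ∃ z, T z ≠ 0 := by
      by_contra hcon
      push Not at hcon
      have h1 : T.ker = ⊤ := eq_top_iff.2 fun z _ => hcon z
      rw [h1, AddSubgroup.coe_top, Nat.card_congr (Equiv.Set.univ F), S.card, hpa] at hTker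
      nlinarith
    refine ⟨z / (z + σ z), ?_⟩
    have h1 : σ (z + σ z) = z + σ z := by rw [map_add, hσσ, add_comm]
    rw [map_div₀, h1, ← add_div]
    exact div_self hz
  -- the range of `D` has order `p ^ b`
  have hDker : Nat.card (D.ker : Set F) ≤ p ^ b := ncard_roots_le hN 1 _ fun x hx => by
    have h1 : x - σ x = 0 := hx
    rw [← hσ, one_mul]
    exact (sub_eq_zero.1 h1).symm
  have hDrange : Nat.card (D.range : Set F) ≤ p ^ b := ncard_roots_le hN (-1) _ fun x hx => by
    obtain ⟨z, rfl⟩ := hx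
    rw [← hσ, neg_one_mul]
    show σ (z - σ z) = -(z - σ z)
    rw [map_sub, hσσ, neg_sub]
  have hWcard : Nat.card D.range = p ^ b := by
    have h1 : Nat.card D.range * Nat.card D.ker = p ^ a := by
      rw [mul_comm, ← AddSubgroup.index_ker, AddSubgroup.card_mul_index, S.card]
    refine le_antisymm hDrange ?_
    by_contra hlt
    push Not at hlt
    have h2 : Nat.card D.ker ≤ p ^ b := hDker
    nlinarith [Nat.mul_le_mul h2 hlt.le, Nat.one_le_pow b p hp.out.pos]
  let f : F →+ F →+ D.range :=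
    AddMonoidHom.mk' (fun x => AddMonoidHom.mk' (fun y => D.rangeRestrict (θ * x * σ y))
      fun y y' => by rw [map_add σ, mul_add, map_add]) fun x x' => by
        ext y
        simp [mul_add, add_mul]
  let c : Cocycle ζ D.range := ⟨f, fun x y => by
    show D.rangeRestrict (θ * (ζ * x) * σ (ζ * y)) = D.rangeRestrict (θ * x * σ y)
    congr 1
    rw [map_mul]
    linear_combination θ * x * σ y * hσζ⟩
  refine ⟨Cover S hr c, inferInstance, inferInstance, coverMap S hr c, coverMap_surjective S hr c,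
    coverMap_ker S hr c, cover_frattini S hr c (eq_top_iff.2 ?_), ?_⟩
  · rintro ⟨w, z, rfl⟩ -
    refine AddSubgroup.subset_closure ⟨z, 1, Subtype.ext ?_⟩
    show D z = D (θ * z * σ 1) - D (θ * 1 * σ z)
    show z - σ z = (θ * z * σ 1 - σ (θ * z * σ 1)) - (θ * 1 * σ z - σ (θ * 1 * σ z))
    simp only [map_mul, map_one, hσσ, mul_one]
    linear_combination (σ z - z) * hθ
  · rw [card_cover, hWcard, ← pow_add]

end CfsgLib.Solvable.SchmidtUniversal
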