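import Cfsg.Agent.Lib.Solvable.SchmidtUniversal.Model
import Cfsg.Agent.Lib.Solvable.SchmidtUniversal.Irreducible
import Cfsg.Agent.Lib.Solvable.SchmidtSylow
import Cfsg.Agent.Lib.Solvable.Schmidt
import Cfsg.Agent.Lib.LocalEven.Residual
import Cfsg.Agent.S0132

/-!
The structure of a minimal non-`p`-nilpotent group of order `p ^ t * q ^ r`: it maps onto the
common quotient with central kernel, and its order is bounded.
-/

open scoped commutatorElement Pointwise
open Subgroup

set_option linter.style.haveILetI false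

namespace CfsgLib.Solvable.SchmidtUniversal

variable {p q a r t : ℕ} [hp : Fact p.Prime] [hq : Fact q.Prime]

/-- The basic facts about a minimal non-`p`-nilpotent group of order `p ^ t * q ^ r`. -/
structure Facts (p q r : ℕ) {X : Type*} [Group X] (P : Subgroup X) (c : X) (α : MulAut ↥P) : Prop where
  normal : P.Normal
  isPGroup : IsPGroup p ↥P
  card : Nat.card X = Nat.card ↥P * q ^ r
  order : orderOf c = q ^ r
  sup : P ⊔ zpowers c = ⊤
  alpha : ∀ y : ↥P, ((α y : ↥P) : X) = c * y * c⁻¹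
  alpha_pow : α ^ q = 1
  alpha_ne : α ≠ 1
  rigid : ∀ E : Subgroup ↥P, E.Normal → (∀ x ∈ E, α x ∈ E) → E ≠ ⊤ → ∀ x ∈ E, α x = x

section Setup

variable {X : Type*} [Group X] [Finite X]

theorem exists_facts (hpq : p ≠ q) (hr : 1 ≤ r) (hX : ¬ Cfsg.HasNormalPComplement p X)
    (hX' : ∀ K : Subgroup X, K ≠ ⊤ → Cfsg.HasNormalPComplement p ↥K)
    (hcard : Nat.card X = p ^ t * q ^ r) :
    ∃ (P : Subgroup X) (c : X) (α : MulAut ↥P), Facts p q r P c α := by
  classical
  obtain ⟨hnil, hnn, hPn⟩ := Cfsg.Agent.S0132.result hX hX'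
  obtain ⟨P⟩ : Nonempty (Sylow p X) := inferInstance
  haveI hPnor := hPn P
  obtain ⟨p₁, q₁, hp₁, -, -, P₁, -, hP₁c, -, -, -, hP₁n⟩ := Solvable.Schmidt.structure_minimal hnn hnil
  haveI := Fact.mk hp₁
  obtain rfl : p₁ = q := by
    have hd : p₁ ∣ p ^ t * q ^ r := by
      rw [← hcard]
      obtain ⟨k, hk⟩ := IsPGroup.iff_card.mp P₁.isPGroup'
      rcases Nat.eq_zero_or_pos k with rfl | hk0
      · rw [pow_zero, card_eq_one] at hk
        exact absurd (hk ▸ (inferInstance : (⊥ : Subgroup X).Normal)) hP₁n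
      · exact (hk ▸ dvd_pow_self p₁ hk0.ne').trans (card_subgroup_dvd_card _)
    rcases hp₁.dvd_mul.1 hd with h | h
    · obtain rfl := (Nat.prime_dvd_prime_iff_eq hp₁ hp.out).1 (hp₁.dvd_of_dvd_pow h)
      exact absurd (hPn P₁) hP₁n
    · exact (Nat.prime_dvd_prime_iff_eq hp₁ hq.out).1 (hp₁.dvd_of_dvd_pow h)
  have hcop : (p ^ t).Coprime (p₁ ^ r) := ((Nat.coprime_primes hp.out hq.out).2 hpq).pow t r
  have hPcard : Nat.card (P : Subgroup X) = p ^ t := by
    rw [P.card_eq_multiplicity, hcard, Nat.factorization_mul (pow_ne_zero _ hp.out.ne_zero)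
      (pow_ne_zero _ hp₁.ne_zero), hp.out.factorization_pow, hp₁.factorization_pow]
    simp [hpq, Ne.symm hpq]
  have hQcard : Nat.card (P₁ : Subgroup X) = p₁ ^ r := by
    rw [P₁.card_eq_multiplicity, hcard, Nat.factorization_mul (pow_ne_zero _ hp.out.ne_zero)
      (pow_ne_zero _ hp₁.ne_zero), hp.out.factorization_pow, hp₁.factorization_pow]
    simp [hpq, Ne.symm hpq]
  obtain ⟨⟨c, hcQ⟩, hc⟩ := hP₁c.exists_generator
  have hQ : (P₁ : Subgroup X) = zpowers c := le_antisymm (fun y hy => by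
    obtain ⟨i, hi⟩ := mem_zpowers_iff.1 (hc ⟨y, hy⟩)
    exact ⟨i, congrArg Subtype.val hi⟩) (zpowers_le.2 hcQ)
  have hord : orderOf c = p₁ ^ r := by rw [← Nat.card_zpowers, ← hQ, hQcard]
  have hsup : (P : Subgroup X) ⊔ zpowers c = ⊤ := by
    refine eq_top_of_card_eq _ (Nat.dvd_antisymm (card_subgroup_dvd_card _) ?_)
    rw [hcard]
    exact hcop.mul_dvd_of_dvd_of_dvd (hPcard ▸ card_dvd_of_le le_sup_left)
      (hord ▸ Nat.card_zpowers c ▸ card_dvd_of_le le_sup_right)
  have hPcop : (Nat.card (P : Subgroup X)).Coprime p₁ := by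
    rw [hPcard]; exact ((Nat.coprime_primes hp.out hq.out).2 hpq).pow_left t
  have hdisj : ∀ y ∈ zpowers c, y ∈ (P : Subgroup X) → y = 1 := fun y hy hyP => by
    refine orderOf_eq_one_iff.1 (Nat.eq_one_of_dvd_coprimes (hPcop.pow_right r)
      (orderOf_dvd_natCard _ hyP) ?_)
    rw [← hord]
    exact orderOf_dvd_of_mem_zpowers hy
  have hcentral : ∀ (x : X) (E : Subgroup X), x ∈ zpowers c → E ≤ (P : Subgroup X) →
      zpowers x ⊔ E ≠ ⊤ → ∀ e ∈ E, x * e = e * x := by
    intro x E hx hE hne e he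
    refine (mem_centralizer_iff.1 (Solvable.Schmidt.le_centralizer_of_nilpotent (p := p₁) (hnil _ hne)
      le_sup_left le_sup_right (P₁.isPGroup'.to_le (hQ ▸ zpowers_le.2 hx))
      (hPcop.coprime_dvd_left (card_dvd_of_le hE)) (mem_zpowers x)) e he).symm
  let α : MulAut (P : Subgroup X) := MulAut.conjNormal c
  have hα : ∀ y : (P : Subgroup X), ((α y : (P : Subgroup X)) : X) = c * y * c⁻¹ := fun y =>
    MulAut.conjNormal_apply c y
  refine ⟨P, c, α, hPnor, P.isPGroup', by rw [hPcard, hcard], hord, hsup, hα, ?_, ?_, ?_⟩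
  · refine MulEquiv.ext fun y => Subtype.ext ?_
    show ((MulAut.conjNormal c ^ p₁) y : X) = y
    rw [← map_pow, MulAut.conjNormal_apply, hcentral _ _ (pow_mem (mem_zpowers c) p₁) le_rfl ?_ y y.2,
      mul_inv_cancel_right]
    intro htop
    obtain ⟨u, hu, w, hw, huw⟩ := mem_sup_of_normal_right.1 (htop.ge (mem_top c))
    have hu' : u ∈ zpowers c := zpowers_le.2 (pow_mem (mem_zpowers c) p₁) hu
    have hw1 : w = 1 := hdisj w (by
      have : w = u⁻¹ * c := by rw [← huw]; group
      rw [this]; exact mul_mem (inv_mem hu') (mem_zpowers c)) hw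
    rw [hw1, mul_one] at huw
    rw [huw] at hu
    have h1 : orderOf (c ^ p₁) = orderOf c := Nat.dvd_antisymm (orderOf_pow_dvd p₁)
      (orderOf_dvd_of_mem_zpowers hu)
    rw [orderOf_pow, Nat.div_eq_self, hord, Nat.gcd_eq_right (dvd_pow_self p₁ (by omega : r ≠ 0))] at h1
    rcases h1 with h1 | h1
    · exact (pow_pos hp₁.pos r).ne' h1
    · exact hp₁.one_lt.ne' h1
  · intro h1
    refine hP₁n (normalizer_eq_top_iff.1 (top_le_iff.1 (hsup ▸ sup_le (fun y hy => ?_)
      (hQ ▸ le_normalizer))))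
    rw [hQ]
    refine centralizer_le_normalizer _ (mem_centralizer_iff.2 fun z hz => ?_)
    obtain ⟨i, rfl⟩ := hz
    have h2 := congrArg Subtype.val (DFunLike.congr_fun h1 (⟨y, hy⟩ : (P : Subgroup X)))
    rw [hα] at h2
    exact (Commute.zpow_left (mul_inv_eq_iff_eq_mul.1 h2) i).eq
  · intro E hEn hinv hne e he
    have hEmap : E.map (P : Subgroup X).subtype ≤ (P : Subgroup X) := map_subtype_le E
    have hne' : zpowers c ⊔ E.map (P : Subgroup X).subtype ≠ ⊤ := by
      intro htop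
      refine hne (top_le_iff.1 fun y _ => ?_)
      have hcN : zpowers c ≤ normalizer ((E.map (P : Subgroup X).subtype) : Set X) := by
        refine zpowers_le.2 (mem_normalizer_iff.2 fun y => ?_)
        have h1 : (E.map (P : Subgroup X).subtype).map (MulAut.conj c).toMonoidHom =
            E.map (P : Subgroup X).subtype := by
          refine eq_of_le_of_card_ge ?_ (card_map_of_injective (MulAut.conj c).injective).ge
          rintro _ ⟨_, ⟨w, hw, rfl⟩, rfl⟩
          exact ⟨α w, hinv w hw, hα w⟩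
        conv_rhs => rw [← h1]
        constructor
        · exact fun hy => ⟨y, hy, rfl⟩
        · rintro ⟨w, hw, hwy⟩
          rwa [← (MulAut.conj c).injective hwy]
      have hy : (y : X) ∈ ((zpowers c : Subgroup X) : Set X) * ((E.map (P : Subgroup X).subtype : Subgroup X) : Set X) := by
        rw [← coe_mul_of_left_le_normalizer_right _ _ hcN, htop]; trivial
      obtain ⟨u, hu, w, hw, huw⟩ := hy
      have hu1 : u = 1 := hdisj u hu (by
        rw [show u = (y : X) * w⁻¹ by rw [← huw]; group]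
        exact mul_mem y.2 (inv_mem (hEmap hw)))
      simp only [hu1, one_mul] at huw
      obtain ⟨w', hw', rfl⟩ := hw
      rwa [← Subtype.ext (huw : (w' : X) = y)]
    have h2 := hcentral c _ (mem_zpowers c) hEmap hne' e (mem_map_of_mem _ he)
    exact Subtype.ext (by rw [hα]; exact mul_inv_eq_iff_eq_mul.2 h2)

end Setup

namespace Facts

variable {X : Type*} [Group X] [Finite X] {P : Subgroup X} {c : X} {α : MulAut ↥P}
  (H : Facts p q r P c α)

include H in
theorem nontrivial : Nontrivial ↥P := by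
  by_contra hn
  rw [not_nontrivial_iff_subsingleton] at hn
  exact H.alpha_ne (MulEquiv.ext fun x => Subsingleton.elim _ _)

include H in
theorem frattini_ne : frattini ↥P ≠ ⊤ := by
  haveI := H.nontrivial
  intro htop
  have h1 : (⊥ : Subgroup ↥P) = ⊤ := frattini_nongenerating (by rw [bot_sup_eq]; exact htop)
  exact bot_ne_top h1

omit [Finite X] in
theorem frattini_invariant (x : ↥P) (hx : x ∈ frattini ↥P) : α x ∈ frattini ↥P :=
  ((characteristic_iff_comap_eq.1 (inferInstance : (frattini ↥P).Characteristic) α).ge hx :)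

include H in
theorem frattini_fixed (x : ↥P) (hx : x ∈ frattini ↥P) : α x = x :=
  H.rigid _ inferInstance frattini_invariant H.frattini_ne x hx

include H in
theorem closure_moves (hne : p ≠ q) :
    Subgroup.closure (Set.range fun y : ↥P => y⁻¹ * α y) = ⊤ := by
  refine frattini_nongenerating ?_
  set T := Subgroup.closure (Set.range fun y : ↥P => y⁻¹ * α y) ⊔ frattini ↥P with hT
  haveI : T.Normal := ⟨fun x hx g => by
    rw [show g * x * g⁻¹ = ⁅g, x⁆ * x by rw [commutatorElement_def]; group]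
    exact mul_mem (mem_sup_right (PGroup.Frattini.commutatorElement_mem_frattini H.isPGroup g x)) hx⟩
  refine SchmidtSylow.eq_top_of_moves H.isPGroup hq.out (Ne.symm hne) H.alpha_pow H.alpha_ne H.rigid
    (fun x hx => ?_) fun y => mem_sup_left (subset_closure ⟨y, rfl⟩)
  have h1 : T ≤ T.comap α.toMonoidHom := by
    refine sup_le ((closure_le _).2 ?_) fun z hz => mem_sup_right (frattini_invariant z hz)
    rintro _ ⟨y, rfl⟩
    show α (y⁻¹ * α y) ∈ T
    rw [map_mul, map_inv]
    exact mem_sup_left (subset_closure ⟨α y, rfl⟩)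
  exact h1 hx

include H in
theorem frattini_central (hne : p ≠ q) (z : ↥P) (hz : z ∈ frattini ↥P) :
    (z : X) ∈ center X := by
  have hP : ∀ y : ↥P, y * z = z * y := by
    intro y
    have hy : y ∈ Subgroup.closure (Set.range fun y : ↥P => y⁻¹ * α y) :=
      (H.closure_moves hne).ge (mem_top y)
    refine (mem_centralizer_iff.1 ((closure_le (centralizer ({z} : Set ↥P))).2 ?_ hy) z rfl).symm
    rintro _ ⟨y, rfl⟩
    refine mem_centralizer_iff.2 fun w hw => ?_
    rw [Set.mem_singleton_iff.1 hw]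
    have h1 : α y * z * (α y)⁻¹ = y * z * y⁻¹ := by
      rw [← H.frattini_fixed _ ((inferInstance : (frattini ↥P).Normal).conj_mem z hz y), map_mul,
        map_mul, map_inv, H.frattini_fixed z hz]
    calc z * (y⁻¹ * α y) = y⁻¹ * (y * z * y⁻¹) * α y := by group
      _ = y⁻¹ * α y * z := by rw [← h1]; group
  refine mem_center_iff.2 fun x => ?_
  have hx : x ∈ P ⊔ zpowers c := H.sup.ge (mem_top x)
  refine (mem_centralizer_iff.1 ((sup_le (fun y hy => ?_) (zpowers_le.2 ?_) :
    P ⊔ zpowers c ≤ centralizer ({(z : X)} : Set X)) hx) z rfl).symm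
  · refine mem_centralizer_iff.2 fun w hw => ?_
    rw [Set.mem_singleton_iff.1 hw]
    exact (congrArg Subtype.val (hP ⟨y, hy⟩)).symm
  · refine mem_centralizer_iff.2 fun w hw => ?_
    rw [Set.mem_singleton_iff.1 hw]
    have h2 := congrArg Subtype.val (H.frattini_fixed z hz)
    rw [H.alpha] at h2
    exact (mul_inv_eq_iff_eq_mul.1 h2).symm

end Facts

section Main

variable {F : Type*} [Field F] [Finite F] {ζ : F} (S : Setup p q a F ζ) (hr : 1 ≤ r)
variable {X : Type*} [Group X] [Finite X]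

include S in
/-- The coordinate map on the normal Sylow subgroup. -/
theorem exists_coord {P : Subgroup X} {c : X} {α : MulAut ↥P} (H : Facts p q r P c α) :
    ∃ (ε : ↥P →* Multiplicative F) (i : ℕ), ¬ q ∣ i ∧ Function.Surjective ε ∧ ε.ker = frattini ↥P ∧
      ∀ y, ε ((α ^ i) y) = zetaAut S (ε y) := by
  classical
  letI : CommGroup (↥P ⧸ frattini ↥P) :=
    { (inferInstance : Group (↥P ⧸ frattini ↥P)) with
      mul_comm := PGroup.Frattini.quotient_mul_comm H.isPGroup }
  set mk := QuotientGroup.mk' (frattini ↥P) with hmk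
  have hmks : Function.Surjective mk := QuotientGroup.mk'_surjective _
  haveI : Nontrivial (↥P ⧸ frattini ↥P) := by
    by_contra hn
    rw [not_nontrivial_iff_subsingleton] at hn
    exact H.frattini_ne (eq_top_iff.2 fun y _ => (QuotientGroup.eq_one_iff y).1 (Subsingleton.elim _ _))
  let TV : (↥P ⧸ frattini ↥P) →* (↥P ⧸ frattini ↥P) :=
    QuotientGroup.map _ _ α.toMonoidHom fun x hx => Facts.frattini_invariant x hx
  have hTV : ∀ y, TV (mk y) = mk (α y) := fun y => rfl
  let d : (↥P ⧸ frattini ↥P) →* (↥P ⧸ frattini ↥P) := MonoidHom.mk' (fun v => v⁻¹ * TV v) fun v w => by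
    rw [map_mul, mul_inv]; ac_rfl
  have hd : Function.Bijective d := by
    refine Finite.surjective_iff_bijective.1 (MonoidHom.range_eq_top.1 (eq_top_iff.2 fun v _ => ?_))
    obtain ⟨y, rfl⟩ := hmks v
    have hy : y ∈ Subgroup.closure (Set.range fun y : ↥P => y⁻¹ * α y) :=
      (H.closure_moves S.ne).ge (mem_top y)
    exact ((closure_le (d.range.comap mk)).2 (by
      rintro _ ⟨z, rfl⟩
      refine ⟨mk z, ?_⟩
      show (mk z)⁻¹ * TV (mk z) = mk (z⁻¹ * α z)
      rw [hTV, map_mul, map_inv]) hy)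
  let T : AddMonoid.End (Additive (↥P ⧸ frattini ↥P)) := MonoidHom.toAdditive TV
  have hTapp : ∀ y, T (Additive.ofMul (mk y)) = Additive.ofMul (mk (α y)) := fun y => rfl
  have hTpow : ∀ (i : ℕ) y, (T ^ i) (Additive.ofMul (mk y)) = Additive.ofMul (mk ((α ^ i) y)) := by
    intro i
    induction i with
    | zero => intro y; rfl
    | succ i ih =>
      intro y
      rw [pow_succ' T, pow_succ' α, MulAut.mul_apply]
      show T ((T ^ i) _) = _
      rw [ih, hTapp]
  have hA : T ^ q = 1 := by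
    refine DFunLike.ext _ _ fun v => ?_
    obtain ⟨y, hy⟩ := hmks v.toMul
    rw [show v = Additive.ofMul (mk y) by rw [hy, ofMul_toMul], hTpow, H.alpha_pow]
    rfl
  have hB : T ≠ 1 := by
    intro h1
    obtain ⟨v, hv⟩ := exists_ne (1 : ↥P ⧸ frattini ↥P)
    obtain ⟨w, hw⟩ := hd.2 v
    refine hv (hw.symm.trans ?_)
    show w⁻¹ * TV w = 1
    have h2 : Additive.toMul (T (Additive.ofMul w)) = w := by rw [h1]; rfl
    rw [show TV w = w from h2, inv_mul_cancel]
  have hC : ∀ v : Additive (↥P ⧸ frattini ↥P), p • v = 0 := by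
    intro v
    obtain ⟨y, hy⟩ := hmks v.toMul
    rw [show v = Additive.ofMul (mk y) by rw [hy, ofMul_toMul], ← ofMul_pow]
    exact congrArg Additive.ofMul (PGroup.Frattini.quotient_pow_eq_one H.isPGroup _)
  have hD : ∀ U : AddSubgroup (Additive (↥P ⧸ frattini ↥P)), (∀ v ∈ U, T v ∈ U) → U = ⊥ ∨ U = ⊤ := by
    intro U hU
    by_cases htop : U = ⊤
    · exact Or.inr htop
    refine Or.inl ((AddSubgroup.eq_bot_iff_forall _).2 fun v hv => ?_)
    let U' : Subgroup (↥P ⧸ frattini ↥P) := AddSubgroup.toSubgroup' U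
    have hfix := H.rigid (U'.comap mk) inferInstance (fun x hx => by
      show Additive.ofMul (mk (α x)) ∈ U
      rw [← hTapp]
      exact hU _ hx) (fun h => htop (eq_top_iff.2 fun w _ => by
        obtain ⟨y, hy⟩ := hmks w.toMul
        have h2 : Additive.ofMul (mk y) ∈ U := h.ge (mem_top y)
        rwa [hy, ofMul_toMul] at h2))
    obtain ⟨y, hy⟩ := hmks v.toMul
    have h1 : α y = y := hfix y (show Additive.ofMul (mk y) ∈ U by rwa [hy, ofMul_toMul])
    have h2 : d (mk y) = d 1 := by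
      show (mk y)⁻¹ * TV (mk y) = (1 : ↥P ⧸ frattini ↥P)⁻¹ * TV 1
      rw [hTV, h1, inv_mul_cancel, map_one TV, mul_one, inv_one]
    rw [show v = Additive.ofMul (mk y) by rw [hy, ofMul_toMul], hd.1 h2]
    rfl
  obtain ⟨e, i, hi, he⟩ := field_of_irreducible S T hA hB hC hD
  refine ⟨MonoidHom.mk' (fun y => Multiplicative.ofAdd (e (Additive.ofMul (mk y)))) (fun y w => by
    rw [← ofAdd_add, ← map_add, ← ofMul_mul, ← map_mul]), i, hi, ?_, ?_, fun y => ?_⟩
  · intro z
    obtain ⟨v, hv⟩ := e.surjective z.toAdd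
    obtain ⟨y, hy⟩ := hmks v.toMul
    refine ⟨y, ?_⟩
    show Multiplicative.ofAdd (e (Additive.ofMul (mk y))) = z
    rw [hy, ofMul_toMul, hv, ofAdd_toAdd]
  · ext y
    rw [MonoidHom.mem_ker, ← QuotientGroup.eq_one_iff (N := frattini ↥P) y]
    show Multiplicative.ofAdd (e (Additive.ofMul (mk y))) = 1 ↔ mk y = 1
    rw [ofAdd_eq_one, AddEquiv.map_eq_zero_iff, ofMul_eq_zero]
  · show Multiplicative.ofAdd (e (Additive.ofMul (mk ((α ^ i) y)))) =
      Multiplicative.ofAdd (ζ * e (Additive.ofMul (mk y)))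
    rw [← hTpow, he]

include S in
theorem card_frattini_le {P : Subgroup X} {c : X} {α : MulAut ↥P} (H : Facts p q r P c α)
    (ε : ↥P →* Multiplicative F) (i : ℕ) (hεs : Function.Surjective ε) (hεk : ε.ker = frattini ↥P)
    (hε : ∀ y, ε ((α ^ i) y) = zetaAut S (ε y)) :
    Nat.card (frattini ↥P) ≤ p ^ (if a % 2 = 1 then 0 else a / 2) := by
  classical
  have hzc : ∀ z ∈ ε.ker, ∀ y : ↥P, y * z = z * y := fun z hz y =>
    Subtype.ext (mem_center_iff.1 (H.frattini_central S.ne z (hεk ▸ hz)) (y : X))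
  have hcc : ∀ x y : ↥P, ∀ g, g * ⁅x, y⁆ = ⁅x, y⁆ * g := fun x y g =>
    hzc _ (hεk.ge (PGroup.Frattini.commutatorElement_mem_frattini H.isPGroup x y)) g
  have hmulL : ∀ x y w : ↥P, ⁅x * y, w⁆ = ⁅x, w⁆ * ⁅y, w⁆ := fun x y w => by
    rw [show ⁅x * y, w⁆ = (x * ⁅y, w⁆ * x⁻¹) * ⁅x, w⁆ by simp only [commutatorElement_def]; group,
      hcc y w x, mul_inv_cancel_right, hcc x w]
  have hmulR : ∀ x y w : ↥P, ⁅x, y * w⁆ = ⁅x, y⁆ * ⁅x, w⁆ := fun x y w => by
    rw [show ⁅x, y * w⁆ = ⁅x, y⁆ * (y * ⁅x, w⁆ * y⁻¹) by simp only [commutatorElement_def]; group,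
      hcc x w y, mul_inv_cancel_right]
  have hwd : ∀ x x' y y' : ↥P, ε x = ε x' → ε y = ε y' → ⁅x, y⁆ = ⁅x', y'⁆ := by
    intro x x' y y' hx hy
    have hz1 : x'⁻¹ * x ∈ ε.ker := by rw [MonoidHom.mem_ker, map_mul, map_inv, hx, inv_mul_cancel]
    have hz2 : y'⁻¹ * y ∈ ε.ker := by rw [MonoidHom.mem_ker, map_mul, map_inv, hy, inv_mul_cancel]
    rw [show x = x' * (x'⁻¹ * x) by group, show y = y' * (y'⁻¹ * y) by group, hmulL,
      commutatorElement_eq_one_iff_mul_comm.2 (hzc _ hz1 _).symm, mul_one, hmulR,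
      commutatorElement_eq_one_iff_mul_comm.2 (hzc _ hz2 _), mul_one]
  choose l hl using fun u : F => hεs (Multiplicative.ofAdd u)
  have hfix' : ∀ (n : ℕ), ∀ z ∈ frattini ↥P, (α ^ n) z = z := fun n z hz => by
    induction n with
    | zero => rfl
    | succ n ih => rw [pow_succ', MulAut.mul_apply, ih, H.frattini_fixed z hz]
  have hfix := hfix' i
  obtain ⟨g, hg, hgcard⟩ := range_bound S (fun u v => ⁅l u, l v⁆)
    (fun u v w => by
      rw [← hmulL]
      exact hwd _ _ _ _ (by rw [map_mul, hl, hl, hl, ofAdd_add]) rfl)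
    (fun u v w => by
      rw [← hmulR]
      exact hwd _ _ _ _ rfl (by rw [map_mul, hl, hl, hl, ofAdd_add]))
    (fun u v => by
      rw [hwd _ ((α ^ i) (l u)) _ ((α ^ i) (l v))
        (by rw [hε, hl, hl, zetaAut_apply, toAdd_ofAdd]) (by rw [hε, hl, hl, zetaAut_apply, toAdd_ofAdd]),
        ← map_commutatorElement]
      exact hfix _ (PGroup.Frattini.commutatorElement_mem_frattini H.isPGroup _ _))
    (fun u => commutatorElement_self _)
  refine le_trans (Nat.le_of_dvd Nat.card_pos (card_dvd_of_le ?_)) hgcard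
  have hcomm : ∀ x y : ↥P, ⁅x, y⁆ ∈ g.range := fun x y => by
    rw [hwd x (l (ε x).toAdd) y (l (ε y).toAdd) (by rw [hl, ofAdd_toAdd]) (by rw [hl, ofAdd_toAdd])]
    exact hg _ _
  haveI : g.range.Normal := ⟨fun x hx w => by
    rw [show w * x * w⁻¹ = ⁅w, x⁆ * x by rw [commutatorElement_def]; group]
    exact mul_mem (hcomm w x) hx⟩
  refine CfsgLib.LocalEven.Residual.frattini_le (p := p) hcomm fun y => ?_
  let Q := ↥P ⧸ g.range
  have hQc : ∀ u v : Q, u * v = v * u := fun u v => by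
    obtain ⟨x, rfl⟩ := QuotientGroup.mk'_surjective g.range u
    obtain ⟨y, rfl⟩ := QuotientGroup.mk'_surjective g.range v
    rw [← commutatorElement_eq_one_iff_mul_comm, ← map_commutatorElement]
    exact (QuotientGroup.eq_one_iff _).2 (hcomm x y)
  let θ : ↥P →* Q := MonoidHom.mk' (fun x => QuotientGroup.mk' g.range (x ^ p)) fun x w => by
    rw [map_pow, map_pow, map_pow, map_mul, Commute.mul_pow (hQc _ _)]
  have hy : y ∈ Subgroup.closure (Set.range fun y : ↥P => y⁻¹ * α y) :=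
    (H.closure_moves S.ne).ge (mem_top y)
  refine (QuotientGroup.eq_one_iff _).1 (((closure_le θ.ker).2 ?_ hy : y ∈ θ.ker) :)
  rintro _ ⟨x, rfl⟩
  show θ (x⁻¹ * α x) = 1
  rw [map_mul, map_inv]
  show (QuotientGroup.mk' g.range (x ^ p))⁻¹ * QuotientGroup.mk' g.range ((α x) ^ p) = 1
  rw [← map_pow α, H.frattini_fixed _ (PGroup.Frattini.pow_mem_frattini H.isPGroup x), inv_mul_cancel]

include S in
/-- The structure theorem. -/
theorem structure_main (hX : ¬ Cfsg.HasNormalPComplement p X)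
    (hX' : ∀ K : Subgroup X, K ≠ ⊤ → Cfsg.HasNormalPComplement p ↥K)
    (hcard : Nat.card X = p ^ t * q ^ r) :
    ∃ π : X →* Base S hr, Function.Surjective π ∧ π.ker ≤ center X ∧
      (∀ K : Subgroup X, K.map π = ⊤ → K = ⊤) ∧
      Nat.card X ≤ p ^ (a + if a % 2 = 1 then 0 else a / 2) * q ^ r := by
  classical
  haveI : NeZero (q ^ r) := ⟨pow_ne_zero r hq.out.ne_zero⟩
  obtain ⟨P, c, α, H⟩ := exists_facts S.ne hr hX hX' hcard
  haveI := H.normal
  obtain ⟨ε, i, hi, hεs, hεk, hε⟩ := exists_coord S H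
  have hbound := card_frattini_le S H ε i hεs hεk hε
  have hPcard : Nat.card ↥P = p ^ a * Nat.card (frattini ↥P) := by
    rw [← card_mul_index ε.ker, index_ker, MonoidHom.range_eq_top.2 hεs, card_top,
      Nat.card_congr Multiplicative.toAdd, S.card, hεk, mul_comm]
  -- the new generator
  set d := c ^ i with hd
  have hdord : orderOf d = q ^ r := by
    rw [hd, orderOf_pow, H.order,
      Nat.Coprime.gcd_eq_one ((hq.out.coprime_iff_not_dvd.2 hi).pow_left r), Nat.div_one]
  have hdz : zpowers d = zpowers c := eq_of_le_of_card_ge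
    (zpowers_le.2 (pow_mem (mem_zpowers c) i)) (by rw [Nat.card_zpowers, Nat.card_zpowers, H.order, hdord])
  have hαpow : ∀ (j : ℕ) (y : ↥P), (((α ^ j) y : ↥P) : X) = c ^ j * y * (c ^ j)⁻¹ := by
    intro j
    induction j with
    | zero => intro y; simp
    | succ j ih => intro y; rw [pow_succ' α, MulAut.mul_apply, H.alpha, ih, pow_succ']; group
  set β := α ^ i with hβ
  have hβq : β ^ (q ^ r) = 1 := by
    obtain ⟨k, hk⟩ := dvd_pow_self q (show r ≠ 0 by omega)
    rw [hβ, ← pow_mul, mul_comm, hk, mul_assoc, pow_mul, H.alpha_pow, one_pow]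
  have hdq : d ^ (q ^ r) = 1 := hdord ▸ pow_orderOf_eq_one d
  let ψ : Multiplicative (ZMod (q ^ r)) →* MulAut ↥P := cycHom β hβq
  let j : ↥P ⋊[ψ] Multiplicative (ZMod (q ^ r)) →* X :=
    SemidirectProduct.lift P.subtype (cycHom d hdq) fun k => MonoidHom.ext fun y => by
      show (((β ^ k.toAdd.val) y : ↥P) : X) = d ^ k.toAdd.val * y * (d ^ k.toAdd.val)⁻¹
      rw [hβ, ← pow_mul, hαpow, hd, ← pow_mul]
  have hjs : Function.Surjective j := by
    refine MonoidHom.range_eq_top.1 (top_le_iff.1 (H.sup ▸ sup_le (fun y hy => ?_) ?_))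
    · exact ⟨SemidirectProduct.inl ⟨y, hy⟩, SemidirectProduct.lift_inl ..⟩
    · rw [← hdz]
      refine zpowers_le.2 ⟨SemidirectProduct.inr (Multiplicative.ofAdd 1), ?_⟩
      rw [SemidirectProduct.lift_inr, cycHom_gen]
  have hjb : Function.Bijective j := by
    haveI : Finite (↥P ⋊[ψ] Multiplicative (ZMod (q ^ r))) := Finite.of_equiv _ SemidirectProduct.equivProd.symm
    refine (Nat.bijective_iff_surjective_and_card j).2 ⟨hjs, ?_⟩
    rw [SemidirectProduct.card, Nat.card_congr Multiplicative.toAdd, Nat.card_zmod, H.card]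
  let m : ↥P ⋊[ψ] Multiplicative (ZMod (q ^ r)) →* Base S hr :=
    SemidirectProduct.map ε (MonoidHom.id _) fun k => MonoidHom.ext fun y => by
      show ε ((β ^ k.toAdd.val) y) = baseAct S hr k (ε y)
      rw [baseAct_apply, ← zetaAut_pow S]
      generalize k.toAdd.val = n
      induction n generalizing y with
      | zero => rfl
      | succ n ih => rw [pow_succ' β, pow_succ' (zetaAut S), MulAut.mul_apply, MulAut.mul_apply, hβ, hε, ih]
  let π : X →* Base S hr := m.comp (MulEquiv.ofBijective j hjb).symm.toMonoidHom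
  have hπj : ∀ w, π (j w) = m w := fun w => congrArg m ((MulEquiv.ofBijective j hjb).symm_apply_apply w)
  have hms : Function.Surjective m := fun z => by
    obtain ⟨y, hy⟩ := hεs z.left
    exact ⟨⟨y, z.right⟩, SemidirectProduct.ext hy rfl⟩
  have hπker : ∀ x ∈ π.ker, ∃ z ∈ frattini ↥P, (z : X) = x := fun x hx => by
    obtain ⟨w, rfl⟩ := hjs x
    rw [MonoidHom.mem_ker, hπj] at hx
    have h1 : ε w.left = 1 := congrArg (fun y : Base S hr => y.left) hx
    have h2 : w.right = 1 := congrArg (fun y : Base S hr => y.right) hx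
    refine ⟨w.left, hεk ▸ h1, ?_⟩
    show (w.left : X) = (w.left : X) * cycHom d hdq w.right
    rw [h2, map_one, mul_one]
  have hker : π.ker ≤ center X := fun x hx => by
    obtain ⟨z, hz, rfl⟩ := hπker x hx
    exact H.frattini_central S.ne z hz
  refine ⟨π, fun z => ?_, hker, fun K hK => ?_, ?_⟩
  · obtain ⟨w, rfl⟩ := hms z
    exact ⟨j w, hπj w⟩
  · have hdec : ∀ x, ∃ h ∈ K, ∃ z ∈ frattini ↥P, x = h * (z : X) := fun x => by
      obtain ⟨h, hh, he⟩ := hK.ge (mem_top (π x))
      obtain ⟨z, hz, hzx⟩ := hπker (h⁻¹ * x) (by rw [MonoidHom.mem_ker, map_mul, map_inv, he, inv_mul_cancel])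
      exact ⟨h, hh, z, hz, by rw [hzx, mul_inv_cancel_left]⟩
    haveI hKn : K.Normal := ⟨fun x hx g => by
      obtain ⟨h, hh, z, hz, rfl⟩ := hdec g
      have hzc := mem_center_iff.1 (H.frattini_central S.ne z hz) x
      rw [show h * (z : X) * x * (h * (z : X))⁻¹ = h * ((z : X) * x * (z : X)⁻¹) * h⁻¹ by group, ← hzc,
        mul_inv_cancel_right]
      exact mul_mem (mul_mem hh hx) (inv_mem hh)⟩
    have hcK : c ∈ K := by
      obtain ⟨h, hh, z, hz, hcz⟩ := hdec c
      obtain ⟨k, hk⟩ := H.isPGroup z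
      have hzk : (z : X) ^ p ^ k = 1 := by rw [← SubgroupClass.coe_pow, hk]; rfl
      have h1 : c ^ p ^ k ∈ K := by
        rw [hcz, (show Commute h (z : X) from mem_center_iff.1 (H.frattini_central S.ne z hz) h).mul_pow,
          hzk, mul_one]
        exact pow_mem hh _
      have hcop : (p ^ k).Coprime (orderOf c) := by
        rw [H.order]; exact ((Nat.coprime_primes hp.out hq.out).2 S.ne).pow k r
      exact zpowers_le.2 h1 (by rw [mem_zpowers_pow_iff]; exact hcop)
    refine top_le_iff.1 (H.sup ▸ sup_le (fun y hy => ?_) (zpowers_le.2 hcK))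
    have hy' : (⟨y, hy⟩ : ↥P) ∈ Subgroup.closure (Set.range fun y : ↥P => y⁻¹ * α y) :=
      (H.closure_moves S.ne).ge (mem_top _)
    refine ((closure_le (K.subgroupOf P)).2 ?_ hy' :)
    rintro _ ⟨w, rfl⟩
    show ((w⁻¹ * α w : ↥P) : X) ∈ K
    rw [Subgroup.coe_mul, Subgroup.coe_inv, H.alpha,
      show (w : X)⁻¹ * (c * w * c⁻¹) = ((w : X)⁻¹ * c * ((w : X)⁻¹)⁻¹) * c⁻¹ by group]
    exact mul_mem (hKn.conj_mem c hcK _) (inv_mem hcK)
  · rw [H.card, hPcard, pow_add]
    exact Nat.mul_le_mul_right _ (Nat.mul_le_mul_left _ hbound)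

end Main

end CfsgLib.Solvable.SchmidtUniversal
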